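import Cfsg.Agent.H25.Fi23.C14080Check0
import Cfsg.Agent.H25.Fi23.C14080Check1
import Cfsg.Agent.H25.Fi23.C14080Check2
import Cfsg.Agent.H25.Fi23.C14080Check3
import Cfsg.Agent.H25.Fi23.C14080Check4

/-!
The checked certificate `C14080`.
-/

set_option autoImplicit false

namespace Cfsg.Agent.H25.Fi23.C14080

theorem cert_ok : cert.OK := ((((range0.append range1).append range2).append range3).append range4)

end Cfsg.Agent.H25.Fi23.C14080
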