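import Cfsg.Agent.H25.Fi23.C3159Check0
import Cfsg.Agent.H25.Fi23.C3159Check1

/-!
The checked certificate `C3159`.
-/

set_option autoImplicit false

namespace Cfsg.Agent.H25.Fi23.C3159

theorem cert_ok : cert.OK := (range0.append range1)

end Cfsg.Agent.H25.Fi23.C3159
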