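import Cfsg.Agent.H25.Fi23.C31671Check0
import Cfsg.Agent.H25.Fi23.C31671Check1
import Cfsg.Agent.H25.Fi23.C31671Check2
import Cfsg.Agent.H25.Fi23.C31671Check3
import Cfsg.Agent.H25.Fi23.C31671Check4
import Cfsg.Agent.H25.Fi23.C31671Check5
import Cfsg.Agent.H25.Fi23.C31671Check6
import Cfsg.Agent.H25.Fi23.C31671Check7
import Cfsg.Agent.H25.Fi23.C31671Check8
import Cfsg.Agent.H25.Fi23.C31671Check9
import Cfsg.Agent.H25.Fi23.C31671Check10

/-!
The checked certificate `C31671`.
-/

set_option autoImplicit false

namespace Cfsg.Agent.H25.Fi23.C31671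

theorem cert_ok : cert.OK := ((((((((((range0.append range1).append range2).append range3).append range4).append range5).append range6).append range7).append range8).append range9).append range10)

end Cfsg.Agent.H25.Fi23.C31671
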