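import Cfsg.Agent.H25.Fi23.C31671Chain
import Cfsg.Agent.H25.Fi23.C31671Orb3510

/-!
Generated orbit and chain certificates.
-/
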