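import Cfsg.Agent.H25.Fi23.C31671Words

/-!
Generated relator checks.
-/

set_option autoImplicit false
set_option Elab.async false

namespace Cfsg.Agent.H25.Fi23.C31671

set_option maxRecDepth 100000 in
theorem perm8000 : allFrom relOK 1000 8000 = true := by decide +kernel

set_option maxRecDepth 100000 in
theorem perm9000 : allFrom relOK 1000 9000 = true := by decide +kernel

set_option maxRecDepth 100000 in
theorem perm10000 : allFrom relOK 1000 10000 = true := by decide +kernel

set_option maxRecDepth 100000 in
theorem perm11000 : allFrom relOK 1000 11000 = true := by decide +kernel

set_option maxRecDepth 100000 in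
theorem perm12000 : allFrom relOK 1000 12000 = true := by decide +kernel

set_option maxRecDepth 100000 in
theorem perm13000 : allFrom relOK 1000 13000 = true := by decide +kernel

set_option maxRecDepth 100000 in
theorem perm14000 : allFrom relOK 1000 14000 = true := by decide +kernel

set_option maxRecDepth 100000 in
theorem perm15000 : allFrom relOK 1000 15000 = true := by decide +kernel

theorem permRange1 : ∀ i, 8000 ≤ i → i < 16000 → relOK i = true := by
  intro i h1 h2
  by_cases c8000 : i < 9000
  · exact allFrom_sound perm8000 i (by omega) (by omega)
  by_cases c9000 : i < 10000
  · exact allFrom_sound perm9000 i (by omega) (by omega)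
  by_cases c10000 : i < 11000
  · exact allFrom_sound perm10000 i (by omega) (by omega)
  by_cases c11000 : i < 12000
  · exact allFrom_sound perm11000 i (by omega) (by omega)
  by_cases c12000 : i < 13000
  · exact allFrom_sound perm12000 i (by omega) (by omega)
  by_cases c13000 : i < 14000
  · exact allFrom_sound perm13000 i (by omega) (by omega)
  by_cases c14000 : i < 15000
  · exact allFrom_sound perm14000 i (by omega) (by omega)
  exact allFrom_sound perm15000 i (by omega) (by omega)

end Cfsg.Agent.H25.Fi23.C31671
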