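import Cfsg.Agent.H25.Fi23.C31671Words

/-!
Generated relator checks.
-/

set_option autoImplicit false
set_option Elab.async false

namespace Cfsg.Agent.H25.Fi23.C31671

set_option maxRecDepth 100000 in
theorem perm16000 : allFrom relOK 1000 16000 = true := by decide +kernel

set_option maxRecDepth 100000 in
theorem perm17000 : allFrom relOK 1000 17000 = true := by decide +kernel

set_option maxRecDepth 100000 in
theorem perm18000 : allFrom relOK 1000 18000 = true := by decide +kernel

set_option maxRecDepth 100000 in
theorem perm19000 : allFrom relOK 1000 19000 = true := by decide +kernel

set_option maxRecDepth 100000 in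
theorem perm20000 : allFrom relOK 1000 20000 = true := by decide +kernel

set_option maxRecDepth 100000 in
theorem perm21000 : allFrom relOK 1000 21000 = true := by decide +kernel

set_option maxRecDepth 100000 in
theorem perm22000 : allFrom relOK 1000 22000 = true := by decide +kernel

set_option maxRecDepth 100000 in
theorem perm23000 : allFrom relOK 1000 23000 = true := by decide +kernel

theorem permRange2 : ∀ i, 16000 ≤ i → i < 24000 → relOK i = true := by
  intro i h1 h2
  by_cases c16000 : i < 17000
  · exact allFrom_sound perm16000 i (by omega) (by omega)
  by_cases c17000 : i < 18000
  · exact allFrom_sound perm17000 i (by omega) (by omega)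
  by_cases c18000 : i < 19000
  · exact allFrom_sound perm18000 i (by omega) (by omega)
  by_cases c19000 : i < 20000
  · exact allFrom_sound perm19000 i (by omega) (by omega)
  by_cases c20000 : i < 21000
  · exact allFrom_sound perm20000 i (by omega) (by omega)
  by_cases c21000 : i < 22000
  · exact allFrom_sound perm21000 i (by omega) (by omega)
  by_cases c22000 : i < 23000
  · exact allFrom_sound perm22000 i (by omega) (by omega)
  exact allFrom_sound perm23000 i (by omega) (by omega)

end Cfsg.Agent.H25.Fi23.C31671
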