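import Cfsg.Agent.H25.Fi23.C31671Perm0
import Cfsg.Agent.H25.Fi23.C31671Perm1
import Cfsg.Agent.H25.Fi23.C31671Perm2
import Cfsg.Agent.H25.Fi23.C31671Perm3

/-!
All relators hold in the table.
-/

set_option autoImplicit false

namespace Cfsg.Agent.H25.Fi23.C31671

theorem relOK_all : ∀ i, i < 31671 → relOK i = true := by
  intro i hi
  by_cases c0 : i < 8000
  · exact permRange0 i (by omega) (by omega)
  by_cases c1 : i < 16000
  · exact permRange1 i (by omega) (by omega)
  by_cases c2 : i < 24000
  · exact permRange2 i (by omega) (by omega)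
  exact permRange3 i (by omega) (by omega)

end Cfsg.Agent.H25.Fi23.C31671
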