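import Cfsg.Agent.H25.Fi23.Table

/-!
Generated certificate: 2 cosets (letters b over "").
-/

set_option autoImplicit false

namespace Cfsg.Agent.H25.Fi23.S2

/-- part of the trie -/
def rowsPart0 : Tr :=
(.leaf 0x1)
/-- the trie -/
def rows : Tr := rowsPart0

/-- relator words -/
def relWords : List (List ℕ) := [
  [0, 0]]

/-- the certificate -/
def cert : Cert := ⟨1, 2, rows, relWords, []⟩

/-- codes -/
def codes : List ℕ := [
0x0,
0x0]

set_option maxRecDepth 100000 in
theorem cert_ok : cert.OK :=
  blockOK_sound (vs := codes) (by decide +kernel) (by decide +kernel)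

end Cfsg.Agent.H25.Fi23.S2
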