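import Cfsg.Agent.H25.Fi23.Table

/-!
Generated certificate: 3 cosets (letters bc over "b").
-/

set_option autoImplicit false

namespace Cfsg.Agent.H25.Fi23.S3

/-- part of the trie -/
def rowsPart0 : Tr :=
(.leaf 0x10000000000000000000000000000000000000000000000000000000000000000000000000000000000000010002000000000100000000000100000000000000000000000000000000000000000000000000000000000000000000000000000000000000000000000000020000000000000000000000000000000000000000000000000000000000000000000000000000000000000000000000000000010000000000)
/-- the trie -/
def rows : Tr := rowsPart0

/-- relator words -/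
def relWords : List (List ℕ) := [
  [0, 0],
  [1, 1],
  [0, 1, 0, 1, 0, 1]]

/-- the certificate -/
def cert : Cert := ⟨2, 3, rows, relWords, [0]⟩

/-- codes -/
def codes : List ℕ := [
0x1,
0x0,
0xc0800020000000000]

set_option maxRecDepth 100000 in
theorem cert_ok : cert.OK :=
  blockOK_sound (vs := codes) (by decide +kernel) (by decide +kernel)

end Cfsg.Agent.H25.Fi23.S3
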