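import Cfsg.Agent.H25.Fi23.Table

/-!
Generated certificate: 4 cosets (letters bcd over "bc").
-/

set_option autoImplicit false

namespace Cfsg.Agent.H25.Fi23.S4

/-- part of the trie -/
def rowsPart0 : Tr :=
(.leaf 0x200000000000000000000000000000000000000000000000000000000000000000000000000004000300000300030000000002000000000011000000000000000000000000000000000000000000000000000000000000000000000000000200020000000001000000000300000000000200000000000000000000000000000000000000000000000000000000000000000000000000000000000000000200000100010000000000000000000000000000000000000000000000000000000000000000000000000000000000000000000100000000000000000000)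
/-- the trie -/
def rows : Tr := rowsPart0

/-- relator words -/
def relWords : List (List ℕ) := [
  [0, 0],
  [1, 1],
  [2, 2],
  [0, 1, 0, 1, 0, 1],
  [0, 2, 0, 2],
  [1, 2, 1, 2, 1, 2]]

/-- the certificate -/
def cert : Cert := ⟨3, 4, rows, relWords, [0, 1]⟩

/-- codes -/
def codes : List ℕ := [
0x10000000001,
0x8100002,
0xc14000200000000000000000000,
0x410000a000c0c00060000000000]

set_option maxRecDepth 100000 in
theorem cert_ok : cert.OK :=
  blockOK_sound (vs := codes) (by decide +kernel) (by decide +kernel)

end Cfsg.Agent.H25.Fi23.S4
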