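import Cfsg.Agent.H25.Fi23.Table

/-!
Generated certificate: 5 cosets (letters bcde over "bcd").
-/

set_option autoImplicit false

namespace Cfsg.Agent.H25.Fi23.S5

/-- part of the trie -/
def rowsPart0 : Tr :=
(.leaf 0x3000000000000000000000000000000000000000000000000000000000000000000900040000080004000007000400000000030000000000210000000000000000000000000000000000000000000000000000000000000000060003000005000300000000020000000004000000000012000000000000000000000000000000000000000000000000000000000000000003000200000000010000000003000004000200000000000300000000000000000000000000000000000000000000000000000000000000000000000000000002000002000100000100010000000000000000000000000000000000000000000000000000000000000000000000000000000001000000000000000000000000000000)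
/-- the trie -/
def rows : Tr := rowsPart0

/-- relator words -/
def relWords : List (List ℕ) := [
  [0, 0],
  [1, 1],
  [2, 2],
  [3, 3],
  [0, 1, 0, 1, 0, 1],
  [0, 2, 0, 2],
  [0, 3, 0, 3],
  [1, 2, 1, 2, 1, 2],
  [1, 3, 1, 3],
  [2, 3, 2, 3, 2, 3]]

/-- the certificate -/
def cert : Cert := ⟨4, 5, rows, relWords, [0, 1, 2]⟩

/-- codes -/
def codes : List ℕ := [
0x100000000010000000001,
0x82000020008180002,
0xc240002000000000000000000000008140006,
0x420000a000c1c000600000000000000000000,
0x418000e000414000e000c10000a0000000000]

set_option maxRecDepth 100000 in
theorem cert_ok : cert.OK :=
  blockOK_sound (vs := codes) (by decide +kernel) (by decide +kernel)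

end Cfsg.Agent.H25.Fi23.S5
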