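import Cfsg.Agent.H25.Fi23.Table

/-!
Generated certificate: 6 cosets (letters bcdef over "bcde").
-/

set_option autoImplicit false

namespace Cfsg.Agent.H25.Fi23.S6

/-- part of the trie -/
def rowsPart0 : Tr :=
(.leaf 0x4000000000000000000000000000000000000000000000000000000010000500000f000500000e000500000d000500000000040000000000310000000000000000000000000000000000000000000000000000000c000400000b000400000a0004000000000300000000050000000000220000000000000000000000000000000000000000000000000000000800030000070003000000000200000000040000090003000000000013000000000000000000000000000000000000000000000000000000040002000000000100000000030000060002000005000200000000000400000000000000000000000000000000000000000000000000000000000000000000020000030001000002000100000100010000000000000000000000000000000000000000000000000000000000000000000000010000000000000000000000000000000000000000)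
/-- the trie -/
def rows : Tr := rowsPart0

/-- relator words -/
def relWords : List (List ℕ) := [
  [0, 0],
  [1, 1],
  [2, 2],
  [3, 3],
  [4, 4],
  [0, 1, 0, 1, 0, 1],
  [0, 2, 0, 2],
  [0, 3, 0, 3],
  [0, 4, 0, 4],
  [1, 2, 1, 2, 1, 2],
  [1, 3, 1, 3],
  [1, 4, 1, 4],
  [2, 3, 2, 3, 2, 3],
  [2, 4, 2, 4],
  [3, 4, 3, 4, 3, 4]]

/-- the certificate -/
def cert : Cert := ⟨5, 6, rows, relWords, [0, 1, 2, 3]⟩

/-- codes -/
def codes : List ℕ := [
0x1000000000100000000010000000001,
0x834000200082c00020008200002,
0xc38000200000000000000000000000828000600081c0006,
0x434000a000c30000600000000000000000000000818000a,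
0x42c000e000428000e000c24000a00000000000000000000,
0x420001200041c00120004180012000c14000e0000000000]

set_option maxRecDepth 100000 in
theorem cert_ok : cert.OK :=
  blockOK_sound (vs := codes) (by decide +kernel) (by decide +kernel)

end Cfsg.Agent.H25.Fi23.S6
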