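import Cfsg.Agent.H25.Fi23.Pres
import Cfsg.Agent.H45.CosetGroup
import Cfsg.Agent.H25.Fi23.C31671OK
import Cfsg.Agent.H25.Fi23.C31671PermOK
import Cfsg.Agent.H25.Fi23.C31671Orbits
import Cfsg.Agent.H25.Fi23.C14080OK
import Cfsg.Agent.H25.Fi23.C3159OK
import Cfsg.Agent.H25.Fi23.S56
import Cfsg.Agent.H25.Fi23.S72
import Cfsg.Agent.H25.Fi23.S6
import Cfsg.Agent.H25.Fi23.S5
import Cfsg.Agent.H25.Fi23.S4
import Cfsg.Agent.H25.Fi23.S3
import Cfsg.Agent.H25.Fi23.S2

/-!
The presented group `Cfsg.Spor.Fi23`: action on 31671 cosets, index, order, faithfulness.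
-/

set_option autoImplicit false

namespace Cfsg.Agent.H25.Fi23

open Cfsg.Spor
open Cfsg.Agent.H45 (Pres evalW evalW_append)

/-- the presented group -/
abbrev X : Type := pres.Gp

/-- letters of the distinguished subgroup -/
def hLetters : List ℕ := [0, 1, 2, 3, 4, 5, 6, 8, 9]

/-- the distinguished subgroup -/
abbrev H : Subgroup X := pres.sub hLetters

theorem evalW_map_letters (ls : List ℕ) (w : List ℕ) :
    evalW (fun l => pres.e (ls.getD l 10)) w = evalW pres.e (w.map fun l => ls.getD l 10) :=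
  (H45.evalW_map _ _ w).symm

/-- one step of the order bound -/
theorem step {C : Cert} (hC : C.OK) (ls ms : List ℕ) (hL : C.L = ls.length) (hn : 0 < C.n)
    (hR : (C.R.all fun w => decide ((w.map fun l => ls.getD l 10) ∈ allR)) = true)
    (hS : (C.S.all fun l => decide (ls.getD l 10 ∈ ms)) = true) {m : ℕ}
    (hm : Finite (pres.sub ms) ∧ Nat.card (pres.sub ms) ≤ m) :
    Finite (pres.sub ls) ∧ Nat.card (pres.sub ls) ≤ C.n * m := by
  have hD : Hyp C (fun l => pres.e (ls.getD l 10)) (pres.sub ms) := by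
    refine ⟨fun l => pres_sq _, fun w hw => ?_, fun l hl => ?_⟩
    · rw [evalW_map_letters]
      exact allR_eq _ (of_decide_eq_true ((List.all_eq_true.mp hR) w hw))
    · exact Subgroup.subset_closure ⟨_, of_decide_eq_true ((List.all_eq_true.mp hS) l hl), rfl⟩
  have h := hC.bound hn hD hm
  have he : {g | ∃ l < C.L, pres.e (ls.getD l 10) = g} = {g | ∃ l ∈ ls, pres.e l = g} := by
    ext g
    constructor
    · rintro ⟨l, hl, rfl⟩
      rw [hL] at hl
      exact ⟨_, by rw [List.getD_eq_getElem _ _ hl]; exact List.getElem_mem hl, rfl⟩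
    · rintro ⟨x, hx, rfl⟩
      obtain ⟨k, hk, rfl⟩ := List.getElem_of_mem hx
      exact ⟨k, hL ▸ hk, by rw [List.getD_eq_getElem _ _ hk]⟩
  rw [he] at h
  exact h

theorem bound_b : Finite (pres.sub [1]) ∧ Nat.card (pres.sub [1]) ≤ 2 := by
  simpa [S2.cert] using step S2.cert_ok [1] [] rfl (by decide +kernel) (by decide +kernel)
    (by decide +kernel) Pres.sub_nil_card

theorem bound_bc : Finite (pres.sub [1, 2]) ∧ Nat.card (pres.sub [1, 2]) ≤ 6 := by
  simpa [S3.cert] using step S3.cert_ok [1, 2] [1] rfl (by decide +kernel) (by decide +kernel)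
    (by decide +kernel) bound_b

theorem bound_bcd : Finite (pres.sub [1, 2, 3]) ∧ Nat.card (pres.sub [1, 2, 3]) ≤ 24 := by
  simpa [S4.cert] using step S4.cert_ok [1, 2, 3] [1, 2] rfl (by decide +kernel) (by decide +kernel)
    (by decide +kernel) bound_bc

theorem bound_bcde : Finite (pres.sub [1, 2, 3, 4]) ∧ Nat.card (pres.sub [1, 2, 3, 4]) ≤ 120 := by
  simpa [S5.cert] using step S5.cert_ok [1, 2, 3, 4] [1, 2, 3] rfl (by decide +kernel)
    (by decide +kernel) (by decide +kernel) bound_bcd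

theorem bound_bcdef : Finite (pres.sub [1, 2, 3, 4, 5]) ∧ Nat.card (pres.sub [1, 2, 3, 4, 5]) ≤ 720 := by
  simpa [S6.cert] using step S6.cert_ok [1, 2, 3, 4, 5] [1, 2, 3, 4] rfl (by decide +kernel)
    (by decide +kernel) (by decide +kernel) bound_bcde

theorem bound_e6 :
    Finite (pres.sub [1, 2, 3, 4, 5, 8]) ∧ Nat.card (pres.sub [1, 2, 3, 4, 5, 8]) ≤ 51840 := by
  simpa [S72.cert] using step S72.cert_ok [1, 2, 3, 4, 5, 8] [1, 2, 3, 4, 5] rfl (by decide +kernel)
    (by decide +kernel) (by decide +kernel) bound_bcdef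

theorem bound_e7 : Finite (pres.sub [1, 2, 3, 4, 5, 6, 8]) ∧
    Nat.card (pres.sub [1, 2, 3, 4, 5, 6, 8]) ≤ 2903040 := by
  simpa [S56.cert] using step S56.cert_ok [1, 2, 3, 4, 5, 6, 8] [1, 2, 3, 4, 5, 8] rfl
    (by decide +kernel) (by decide +kernel) (by decide +kernel) bound_e6

theorem bound_o7 : Finite (pres.sub [1, 2, 3, 4, 5, 6, 8, 9]) ∧
    Nat.card (pres.sub [1, 2, 3, 4, 5, 6, 8, 9]) ≤ 9170703360 := by
  simpa [C3159.cert] using step C3159.cert_ok [1, 2, 3, 4, 5, 6, 8, 9] [1, 2, 3, 4, 5, 6, 8] rfl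
    (by decide +kernel) (by decide +kernel) (by decide +kernel) bound_e7

theorem bound_h : Finite H ∧ Nat.card H ≤ 129123503308800 := by
  have h := step C14080.cert_ok hLetters [1, 2, 3, 4, 5, 6, 8, 9] rfl
    (by decide +kernel) (by decide +kernel) (by decide +kernel) bound_o7
  exact ⟨h.1, h.2.trans (le_of_eq rfl)⟩

theorem bound_all : Finite X ∧ Nat.card X ≤ 4089470473293004800 := by
  have := step C31671.cert_ok (List.range pres.gl.length) hLetters rfl (by decide +kernel)
    (by decide +kernel) (by decide +kernel) bound_h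
  rw [pres_ok.sub_range] at this
  obtain ⟨hfin, hle⟩ := this
  have : Finite X := Finite.of_equiv _ Subgroup.topEquiv.toEquiv
  refine ⟨this, ?_⟩
  rw [Nat.card_congr Subgroup.topEquiv.toEquiv] at hle
  simpa [C31671.cert] using hle

theorem comm_braid_ok {i : ℕ} (hi : i < 31671) :
    (∀ xy ∈ C31671.comm, walkV C31671.cert.t [xy.1, xy.2] i = walkV C31671.cert.t [xy.2, xy.1] i) ∧
    (∀ xy ∈ C31671.braid, walkV C31671.cert.t [xy.1, xy.2, xy.1] i =
      walkV C31671.cert.t [xy.2, xy.1, xy.2] i) := by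
  have h := C31671.relOK_all i hi
  simp only [C31671.relOK, andB_eq, Bool.and_eq_true] at h
  exact coxOK_sound (by decide +kernel) h.1

theorem Rc_cases : (pres.Rc.all fun w => decide (w ∈ (List.range 10).map fun x => [x, x])
    || decide (w ∈ C31671.comm.map fun xy => [xy.1, xy.2, xy.1, xy.2])
    || decide (w ∈ C31671.braid.map fun xy => [xy.1, xy.2, xy.1, xy.2, xy.1, xy.2])) = true := by
  decide +kernel

theorem Rx_cases : pres.Rx = [(List.replicate 10 C31671.wordA).flatten,
    (List.replicate 9 C31671.wordB).flatten] := by decide +kernel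

theorem rels_perm : ∀ w ∈ pres.R, evalW (sg C31671.cert_ok) w = 1 := by
  intro w hw
  rcases List.mem_append.mp hw with hw | hw
  · have h := List.all_eq_true.mp Rc_cases w hw
    simp only [Bool.or_eq_true, decide_eq_true_eq, List.mem_map] at h
    rcases h with (⟨x, -, rfl⟩ | ⟨xy, hxy, rfl⟩) | ⟨xy, hxy, rfl⟩
    · exact square_rel _
    · have hb : (C31671.comm.all fun xy => Nat.blt xy.1 10 && Nat.blt xy.2 10) = true := by decide +kernel
      have := List.all_eq_true.mp hb xy hxy
      simp only [Bool.and_eq_true, Nat.blt_eq] at this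
      exact comm_rel _ this.1 this.2 fun i hi => (comm_braid_ok hi).1 xy hxy
    · have hb : (C31671.braid.all fun xy => Nat.blt xy.1 10 && Nat.blt xy.2 10) = true := by decide +kernel
      have := List.all_eq_true.mp hb xy hxy
      simp only [Bool.and_eq_true, Nat.blt_eq] at this
      exact braid_rel _ this.1 this.2 fun i hi => (comm_braid_ok hi).2 xy hxy
  · rw [Rx_cases, List.mem_cons, List.mem_singleton] at hw
    rcases hw with rfl | rfl
    · refine powOK_sound _ (u := C31671.colA) (by decide +kernel) fun i hi => ?_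
      have h := C31671.relOK_all i hi
      simp only [C31671.relOK, andB_eq, Bool.and_eq_true] at h
      exact h.2.1
    · refine powOK_sound _ (u := C31671.colB) (by decide +kernel) fun i hi => ?_
      have h := C31671.relOK_all i hi
      simp only [C31671.relOK, andB_eq, Bool.and_eq_true] at h
      exact h.2.2

theorem gl_length : pres.gl.length = 10 := rfl

theorem eOf_sg {l : ℕ} (hl : l < 10) :
    H45.eOf pres.gl (fun x => sg C31671.cert_ok (H45.ixOf pres.gl x)) l = sg C31671.cert_ok l := by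
  have : ∀ l : Fin 10, H45.ixOf pres.gl (pres.gl[(l : ℕ)]'(by rw [gl_length]; exact l.isLt)) = l := by
    decide +kernel
  simp only [H45.eOf, List.getElem?_eq_getElem (show l < pres.gl.length by rw [gl_length]; exact hl),
    Option.elim_some]
  rw [this ⟨l, hl⟩]

theorem exists_act : ∃ φ : X →* Equiv.Perm (Fin C31671.cert.n), Act C31671.cert_ok pres.e φ := by
  let f : Fi23.Gen → Equiv.Perm (Fin C31671.cert.n) :=
    fun x => sg C31671.cert_ok (H45.ixOf pres.gl x)
  have hlt : (pres.R.all fun w => w.all fun l => Nat.blt l 10) = true := by decide +kernel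
  have heval : ∀ w ∈ pres.R, evalW (H45.eOf pres.gl f) w = 1 := by
    intro w hw
    rw [← rels_perm w hw]
    refine congrArg List.prod (List.map_congr_left fun l hl => ?_)
    have := List.all_eq_true.mp (List.all_eq_true.mp hlt w hw) l hl
    rw [Nat.blt_eq] at this
    exact eOf_sg this
  have hcox : H45.CoxHolds pres.edges f :=
    H45.coxHolds_of_words pres_ok.all pres_ok.check fun w hw => heval w (List.mem_append_left _ hw)
  have hinv : ∀ x, (f x)⁻¹ = f x := fun x => inv_eq_of_mul_eq_one_right (sg_sq _ _)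
  refine ⟨PresentedGroup.toGroup (f := f) ?_, ⟨fun l hl => ?_⟩⟩
  · rintro r (⟨x, hx, y, hy, rfl⟩ | hr)
    · rw [map_pow, map_mul, FreeGroup.lift_apply_of, FreeGroup.lift_apply_of]
      exact hcox x hx y hy
    · have h1 := pres_ok.extra_eval _ f hinv
      have h2 : FreeGroup.lift f r ∈ pres.Rx.map (evalW (H45.eOf pres.gl f)) := by
        rw [← h1]; exact List.mem_map.mpr ⟨r, hr, rfl⟩
      obtain ⟨w, hw, hwr⟩ := List.mem_map.mp h2
      rw [← hwr]
      exact heval w (List.mem_append_right _ hw)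
  · have hl' : l < 10 := hl
    rw [← eOf_sg hl']
    simp only [H45.Pres.e, H45.eOf, List.getElem?_eq_getElem
      (show l < pres.gl.length by rw [gl_length]; exact hl'), Option.elim_some,
      PresentedGroup.toGroup.of]
    rfl

theorem gen_top : Subgroup.closure {g : X | ∃ l < C31671.cert.L, pres.e l = g} = ⊤ := pres_ok.gen

theorem fix_hLetters : ∀ l ∈ hLetters, l < C31671.cert.L ∧ tgt C31671.cert.t 0 l = 0 := by
  have : (hLetters.all fun l => Nat.blt l C31671.cert.L && Nat.beq (tgt C31671.cert.t 0 l) 0) = true := by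
    decide +kernel
  simpa only [List.all_eq_true, Bool.and_eq_true, Nat.blt_eq, Nat.beq_eq] using this

theorem hyp_top : Hyp C31671.cert pres.e H := by
  refine ⟨pres_sq, fun w hw => allR_eq w ?_, fun l hl => Subgroup.subset_closure ⟨l, ?_, rfl⟩⟩
  · have : (C31671.cert.R.all fun w => decide (w ∈ allR)) = true := by decide +kernel
    exact of_decide_eq_true (List.all_eq_true.mp this w hw)
  · have : (C31671.cert.S.all fun l => decide (l ∈ hLetters)) = true := by decide +kernel
    exact of_decide_eq_true (List.all_eq_true.mp this l hl)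

/-- the number of points -/
theorem n_pos : 0 < C31671.cert.n := by decide +kernel

theorem index_facts : ∃ φ : X →* Equiv.Perm (Fin C31671.cert.n), Act C31671.cert_ok pres.e φ ∧
    (∀ h ∈ H, φ h ⟨0, n_pos⟩ = ⟨0, n_pos⟩) ∧
    ∃ F : X ⧸ H ≃ Fin C31671.cert.n, F (QuotientGroup.mk (1 : X)) = ⟨0, n_pos⟩ ∧
      ∀ g : X, ∀ x : X ⧸ H, F (g • x) = φ g (F x) := by
  obtain ⟨φ, hA⟩ := exists_act
  have hfix : ∀ h ∈ H, φ h ⟨0, n_pos⟩ = ⟨0, n_pos⟩ := fun h hh => hA.fix_zero n_pos fix_hLetters hh
  exact ⟨φ, hA, hfix, cosetEquiv hA n_pos hyp_top gen_top hfix⟩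

theorem H_index : H.index = 31671 := by
  obtain ⟨φ, -, -, F, -⟩ := index_facts
  exact H45.index_eq_of_equiv F

theorem order_facts : Finite X ∧ Nat.card X = 4089470473293004800 ∧
    ∃ φ : X →* Equiv.Perm (Fin C31671.cert.n), Act C31671.cert_ok pres.e φ ∧ Function.Injective φ ∧
      (∀ h ∈ H, φ h ⟨0, n_pos⟩ = ⟨0, n_pos⟩) ∧
      ∃ F : X ⧸ H ≃ Fin C31671.cert.n, F (QuotientGroup.mk (1 : X)) = ⟨0, n_pos⟩ ∧
        ∀ g : X, ∀ x : X ⧸ H, F (g • x) = φ g (F x) := by
  obtain ⟨φ, hA, hfix, F, hF0, hF⟩ := index_facts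
  have := bound_all.1
  have hsub : ∀ lv ∈ C31671.chain, ∀ l ∈ lv.ls, pres.e l ∈ H := by
    have hls : (C31671.chain.all fun lv => lv.ls.all fun l => decide (l ∈ hLetters)) = true := by
      decide +kernel
    intro lv hlv l hl
    exact Subgroup.subset_closure ⟨l, of_decide_eq_true
      (List.all_eq_true.mp (List.all_eq_true.mp hls lv hlv) l hl), rfl⟩
  obtain ⟨hc, hinj⟩ := card_eq_of_chain hA bound_h.2 C31671.chain_ok C31671.chain_prod hsub
  have hindex : H.index = 31671 := H45.index_eq_of_equiv F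
  have hX : Nat.card X = 4089470473293004800 := by
    rw [← H.card_mul_index, hc, hindex]
  refine ⟨this, hX, φ, hA, (injective_iff_map_eq_one φ).mpr fun g hg => ?_, hfix, F, hF0, hF⟩
  have hgH : g ∈ H := by
    have h1 : F (g • QuotientGroup.mk (1 : X)) = F (QuotientGroup.mk (1 : X)) := by
      rw [hF, hg, Equiv.Perm.one_apply]
    have h2 : (QuotientGroup.mk (g * 1) : X ⧸ H) = QuotientGroup.mk (1 : X) := F.injective h1
    have h3 := QuotientGroup.eq.mp h2.symm
    simpa using h3
  exact hinj hgH H.one_mem (by rw [hg, map_one])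

end Cfsg.Agent.H25.Fi23
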