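import Cfsg.Agent.H25.Fi23.Group

/-!
The distinguished subgroup as written in the statements; suborbits.
-/

set_option autoImplicit false

namespace Cfsg.Agent.H25.Fi23

open Cfsg.Spor
open Cfsg.Agent.H45 (evalW)

theorem H_eq_map :
    ((Subgroup.closure ({Fi23.a, Fi23.b, Fi23.c, Fi23.d, Fi23.e, Fi23.f, Fi23.g, Fi23.h, Fi23.i} :
      Set (FreeGroup Fi23.Gen))).map
        (PresentedGroup.mk (coxRelators Fi23.edges ∪ {r | r ∈ Fi23.extra}))) = H := by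
  rw [MonoidHom.map_closure, H, H45.Pres.sub]
  congr 1
  have h : ∀ g : X, (∃ l ∈ hLetters, pres.e l = g) ↔
      g ∈ ({pres.e 0, pres.e 1, pres.e 2, pres.e 3, pres.e 4, pres.e 5, pres.e 6, pres.e 8, pres.e 9} : Set X) := by
    intro g
    simp [hLetters, Set.mem_insert_iff, eq_comm]
  ext g
  refine Iff.trans ?_ (h g).symm
  simp only [Set.image_insert_eq, Set.image_singleton]
  rfl

theorem orbit_count {φ : X →* Equiv.Perm (Fin C31671.cert.n)} (hA : Act C31671.cert_ok pres.e φ)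
    (F : X ⧸ H ≃ Fin C31671.cert.n) (hF : ∀ g : X, ∀ x : X ⧸ H, F (g • x) = φ g (F x))
    {b count : ℕ} {steps : List ℕ} (ho : orbExact C31671.cert hLetters b count steps = true) :
    ∃ q : X ⧸ H, (F q : ℕ) = b ∧ (MulAction.orbit H q).ncard = count := by
  obtain ⟨hb, hcount⟩ := orbExact_sound C31671.cert_ok (fun l hl => (fix_hLetters l hl).1) ho
  refine ⟨F.symm ⟨b, hb⟩, by simp, ?_⟩
  have hmap : H.map φ = Subgroup.closure {y | ∃ l ∈ hLetters, sg C31671.cert_ok l = y} := by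
    rw [H, H45.Pres.sub, MonoidHom.map_closure]
    congr 1
    ext y
    constructor
    · rintro ⟨_, ⟨l, hl, rfl⟩, rfl⟩
      exact ⟨l, hl, (hA.map l (fix_hLetters l hl).1).symm⟩
    · rintro ⟨l, hl, rfl⟩
      exact ⟨_, ⟨l, hl, rfl⟩, hA.map l (fix_hLetters l hl).1⟩
  rw [← hcount, ← hmap, ← Set.ncard_image_of_injective _ F.injective]
  congr 1
  ext y
  constructor
  · rintro ⟨_, ⟨⟨g, hg⟩, rfl⟩, rfl⟩
    refine ⟨⟨φ g, Subgroup.mem_map_of_mem φ hg⟩, ?_⟩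
    change φ g ⟨b, hb⟩ = F (g • F.symm ⟨b, hb⟩)
    rw [hF, Equiv.apply_symm_apply]
  · rintro ⟨⟨_, g, hg, rfl⟩, rfl⟩
    refine ⟨g • F.symm ⟨b, hb⟩, ⟨⟨g, hg⟩, rfl⟩, ?_⟩
    rw [hF, Equiv.apply_symm_apply]
    rfl

theorem chain_head : ∃ steps, ∃ rest, C31671.chain = ⟨1, hLetters, 28160, steps⟩ :: rest :=
  ⟨_, _, rfl⟩

theorem suborbits_points {φ : X →* Equiv.Perm (Fin C31671.cert.n)} (hA : Act C31671.cert_ok pres.e φ)
    (hfix : ∀ h ∈ H, φ h ⟨0, n_pos⟩ = ⟨0, n_pos⟩) (F : X ⧸ H ≃ Fin C31671.cert.n)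
    (hF : ∀ g : X, ∀ x : X ⧸ H, F (g • x) = φ g (F x)) :
    ∃ q₁ q₂ : X ⧸ H, (F q₁ : ℕ) = C31671.orbBase3510 ∧
      (MulAction.orbit H q₁).ncard = 3510 ∧ (MulAction.orbit H q₂).ncard = 28160 ∧ (F q₂ : ℕ) = 1 ∧
      ∀ q : X ⧸ H, q = F.symm ⟨0, n_pos⟩ ∨ q ∈ MulAction.orbit H q₁ ∨ q ∈ MulAction.orbit H q₂ := by
  obtain ⟨q₁, hq₁, h1⟩ := orbit_count hA F hF C31671.orb3510_ok
  obtain ⟨steps, rest, hch⟩ := chain_head
  have hc := C31671.chain_ok
  rw [hch, chainCheck, Bool.and_eq_true, Bool.and_eq_true] at hc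
  obtain ⟨hb, hlow⟩ := orbLow_sound C31671.cert_ok (fun l hl => (fix_hLetters l hl).1) hc.1.2
  have h2' := hlow (H.map φ) fun l hl =>
    ⟨pres.e l, Subgroup.subset_closure ⟨l, hl, rfl⟩, hA.map l (fix_hLetters l hl).1⟩
  set p : X ⧸ H := F.symm ⟨1, hb⟩
  have h2 : 28160 ≤ (MulAction.orbit H p).ncard := by
    rw [← Set.ncard_image_of_injective _ F.injective]
    rw [Nat.card_coe_set_eq] at h2'
    refine h2'.trans (Set.ncard_le_ncard ?_ (Set.toFinite _))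
    rintro _ ⟨⟨_, g, hg, rfl⟩, rfl⟩
    exact ⟨g • p, ⟨⟨g, hg⟩, rfl⟩, by rw [hF, Equiv.apply_symm_apply]; rfl⟩
  set q₀ : X ⧸ H := F.symm ⟨0, n_pos⟩
  have h0 : MulAction.orbit H q₀ = {q₀} := by
    refine Set.eq_singleton_iff_unique_mem.mpr ⟨MulAction.mem_orbit_self _, ?_⟩
    rintro _ ⟨⟨g, hg⟩, rfl⟩
    apply F.injective
    change F (g • q₀) = F q₀
    rw [hF, Equiv.apply_symm_apply, hfix g hg]
  have dis : ∀ x y : X ⧸ H, (MulAction.orbit H x).ncard ≠ (MulAction.orbit H y).ncard →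
      Disjoint (MulAction.orbit H x) (MulAction.orbit H y) := by
    intro x y hxy
    rw [Set.disjoint_left]
    intro z hz1 hz2
    exact hxy (by rw [← MulAction.orbit_eq_iff.mpr hz1, MulAction.orbit_eq_iff.mpr hz2])
  have d01 := dis q₀ q₁ (by rw [h0, Set.ncard_singleton, h1]; norm_num)
  have d02 := dis q₀ p (by rw [h0, Set.ncard_singleton]; omega)
  have d12 := dis q₁ p (by rw [h1]; omega)
  have hcard : Nat.card (X ⧸ H) = 31671 := (Nat.card_congr F).trans (Nat.card_fin _)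
  have : Finite (X ⧸ H) := Finite.of_equiv _ F.symm
  have hsum := Set.ncard_le_ncard (Set.subset_univ
    (MulAction.orbit H q₀ ∪ MulAction.orbit H q₁ ∪ MulAction.orbit H p)) (Set.toFinite _)
  rw [Set.ncard_univ, hcard, Set.ncard_union_eq (Set.disjoint_union_left.mpr ⟨d02, d12⟩),
    Set.ncard_union_eq d01, h0, Set.ncard_singleton, h1] at hsum
  have h2eq : (MulAction.orbit H p).ncard = 28160 := by omega
  refine ⟨q₁, p, hq₁, h1, h2eq, by simp [p], fun q => ?_⟩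
  have hu : (MulAction.orbit H q₀ ∪ MulAction.orbit H q₁ ∪ MulAction.orbit H p) = Set.univ := by
    refine Set.eq_of_subset_of_ncard_le (Set.subset_univ _) ?_ (Set.toFinite _)
    rw [Set.ncard_univ, hcard, Set.ncard_union_eq (Set.disjoint_union_left.mpr ⟨d02, d12⟩),
      Set.ncard_union_eq d01, h0, Set.ncard_singleton, h1, h2eq]
  have hq := hu.symm ▸ Set.mem_univ q
  rw [h0] at hq
  rcases hq with (h | h) | h
  · exact Or.inl h
  · exact Or.inr (Or.inl h)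
  · exact Or.inr (Or.inr h)

theorem suborbits : ∃ q₁ q₂ : X ⧸ H,
    (MulAction.orbit H q₁).ncard = 3510 ∧ (MulAction.orbit H q₂).ncard = 28160 := by
  obtain ⟨φ, hA, hfix, F, -, hF⟩ := index_facts
  obtain ⟨q₁, q₂, -, h1, h2, -, -⟩ := suborbits_points hA hfix F hF
  exact ⟨q₁, q₂, h1, h2⟩

end Cfsg.Agent.H25.Fi23
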