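import Cfsg.Agent.H25.Fi23.Table

/-!
Consequences of checked tables: order bounds, actions, coset bijections, orbits and chains.
-/

set_option autoImplicit false

open scoped Pointwise

namespace Cfsg.Agent.H25.Fi23

open Cfsg.Agent.H45 (force force_eq evalW evalW_cons evalW_nil evalW_append bget bget_set bget_eq)

variable {G : Type*} [Group G] {C : Cert}

/-- closure of the cosets under right multiplication -/
theorem Cert.OK.exhaust (hC : C.OK) (hn : 0 < C.n) {e : ℕ → G} {H : Subgroup G}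
    (hsq : ∀ l, e l * e l = 1) {w : ℕ → G} (hw0 : w 0 = 1)
    (hw : ∀ i, i < C.n → ∀ l, l < C.L → ERel C.t e H w i l) :
    ∀ g ∈ Subgroup.closure {g | ∃ l < C.L, e l = g}, ∃ i, i < C.n ∧ g * (w i)⁻¹ ∈ H := by
  intro g hg
  have key : ∀ g ∈ Subgroup.closure {g | ∃ l < C.L, e l = g}, ∀ x,
      (∃ i, i < C.n ∧ x * (w i)⁻¹ ∈ H) → ∃ i, i < C.n ∧ x * g * (w i)⁻¹ ∈ H := by
    intro g hg
    induction hg using Subgroup.closure_induction'' with
    | one => intro x hx; simpa using hx
    | mem g hg =>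
      obtain ⟨l, hl, rfl⟩ := hg
      rintro x ⟨i, hi, hx⟩
      refine ⟨_, (hC.edge hi hl).1, ?_⟩
      have := H.mul_mem hx (hw i hi l hl)
      simpa [mul_assoc] using this
    | inv_mem g hg =>
      obtain ⟨l, hl, rfl⟩ := hg
      rintro x ⟨i, hi, hx⟩
      refine ⟨_, (hC.edge hi hl).1, ?_⟩
      rw [inv_eq_of_mul_eq_one_right (hsq l)]
      have := H.mul_mem hx (hw i hi l hl)
      simpa [mul_assoc] using this
    | mul a b _ _ iha ihb => intro x hx; simpa [mul_assoc] using ihb _ (iha x hx)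
  simpa using key g hg 1 ⟨0, hn, by simp [hw0]⟩

/-- one step of an order bound -/
theorem Cert.OK.bound (hC : C.OK) (hn : 0 < C.n) {e : ℕ → G} {K : Subgroup G} {m : ℕ}
    (hD : Hyp C e K) (hm : Finite K ∧ Nat.card K ≤ m) :
    Finite (Subgroup.closure {g | ∃ l < C.L, e l = g}) ∧
      Nat.card (Subgroup.closure {g | ∃ l < C.L, e l = g}) ≤ C.n * m := by
  obtain ⟨w, hw0, -, hw⟩ := hC.closed hD
  have := hm.1
  exact H45.card_le_of_cosets (w := w) (hC.exhaust hn hD.sq hw0 hw) hm.2

/-- the permutation of a letter -/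
noncomputable def sg (hC : C.OK) (l : ℕ) : Equiv.Perm (Fin C.n) :=
  if hl : l < C.L then
    { toFun := fun i => ⟨tgt C.t i l, (hC.edge i.isLt hl).1⟩
      invFun := fun i => ⟨tgt C.t i l, (hC.edge i.isLt hl).1⟩
      left_inv := fun i => Fin.ext (hC.edge i.isLt hl).2.1
      right_inv := fun i => Fin.ext (hC.edge i.isLt hl).2.1 }
  else 1

theorem sg_sq (hC : C.OK) (l : ℕ) : sg hC l * sg hC l = 1 := by
  unfold sg
  split
  · rename_i hl
    apply Equiv.ext; intro i; apply Fin.ext
    exact (hC.edge i.isLt hl).2.1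
  · simp

theorem sg_apply (hC : C.OK) {l : ℕ} (hl : l < C.L) (i : Fin C.n) :
    ((sg hC l i : Fin C.n) : ℕ) = tgt C.t i l := by
  simp [sg, hl]

theorem walkV_lt (hC : C.OK) : ∀ (u : List ℕ), (∀ l ∈ u, l < C.L) → ∀ p, p < C.n →
    walkV C.t u p < C.n := by
  intro u
  induction u with
  | nil => intro _ p hp; exact hp
  | cons m u ih =>
    intro hu p hp
    exact ih (fun l hl => hu l (by simp [hl])) _ (hC.edge hp (hu m (by simp))).1

theorem sg_walk (hC : C.OK) : ∀ (u : List ℕ), (∀ l ∈ u, l < C.L) → ∀ i : Fin C.n,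
    (((evalW (sg hC) u)⁻¹ i : Fin C.n) : ℕ) = walkV C.t u i := by
  intro u
  induction u with
  | nil => intro _ i; simp [evalW, walkV]
  | cons l u ih =>
    intro hu i
    have hl : l < C.L := hu l (by simp)
    rw [evalW_cons, mul_inv_rev, Equiv.Perm.mul_apply, ih (fun x hx => hu x (by simp [hx])), walkV,
      inv_eq_of_mul_eq_one_right (sg_sq hC l), sg_apply hC hl]

theorem evalW_sg_eq_one (hC : C.OK) {u : List ℕ} (hu : ∀ l ∈ u, l < C.L)
    (h : ∀ i, i < C.n → walkV C.t u i = i) : evalW (sg hC) u = 1 := by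
  rw [← inv_eq_one]
  apply Equiv.ext; intro i; apply Fin.ext
  rw [sg_walk hC u hu, Equiv.Perm.one_apply]
  exact h i i.isLt

theorem walkV_append (t : Tr) (u v : List ℕ) : ∀ p, walkV t (u ++ v) p = walkV t v (walkV t u p) := by
  induction u with
  | nil => intro p; rfl
  | cons m u ih => intro p; simpa [walkV] using ih _

/-- A homomorphism agreeing with the table on the letters. -/
structure Act (hC : C.OK) (e : ℕ → G) (φ : G →* Equiv.Perm (Fin C.n)) : Prop where
  map : ∀ l, l < C.L → φ (e l) = sg hC l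

theorem Act.evalW {hC : C.OK} {e : ℕ → G} {φ : G →* Equiv.Perm (Fin C.n)} (hA : Act hC e φ) :
    ∀ (u : List ℕ), (∀ l ∈ u, l < C.L) → φ (H45.evalW e u) = H45.evalW (sg hC) u := by
  intro u
  induction u with
  | nil => intro _; simp [H45.evalW]
  | cons l u ih =>
    intro hu
    rw [evalW_cons, evalW_cons, map_mul, hA.map l (hu l (by simp)), ih (fun x hx => hu x (by simp [hx]))]

/-- subgroup letters fix coset zero -/
theorem Act.fix_zero {hC : C.OK} {e : ℕ → G} {φ : G →* Equiv.Perm (Fin C.n)} (hA : Act hC e φ)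
    (hn : 0 < C.n) {ls : List ℕ} (hls : ∀ l ∈ ls, l < C.L ∧ tgt C.t 0 l = 0) {g : G}
    (hg : g ∈ Subgroup.closure {g | ∃ l ∈ ls, e l = g}) : φ g ⟨0, hn⟩ = ⟨0, hn⟩ := by
  have key : Subgroup.closure {g | ∃ l ∈ ls, e l = g} ≤
      (MulAction.stabilizer (Equiv.Perm (Fin C.n)) (⟨0, hn⟩ : Fin C.n)).comap φ := by
    refine (Subgroup.closure_le _).mpr ?_
    rintro _ ⟨l, hl, rfl⟩
    rw [SetLike.mem_coe, Subgroup.mem_comap, MulAction.mem_stabilizer_iff, Equiv.Perm.smul_def,
      hA.map l (hls l hl).1]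
    apply Fin.ext
    rw [sg_apply hC (hls l hl).1]
    exact (hls l hl).2
  simpa using key hg

/-- cosets of a subgroup correspond to the points of the table -/
theorem cosetEquiv {hC : C.OK} {e : ℕ → G} {φ : G →* Equiv.Perm (Fin C.n)} (hA : Act hC e φ)
    (hn : 0 < C.n) {H : Subgroup G} (hD : Hyp C e H)
    (hgen : Subgroup.closure {g | ∃ l < C.L, e l = g} = ⊤)
    (hfix : ∀ h ∈ H, φ h ⟨0, hn⟩ = ⟨0, hn⟩) :
    ∃ F : G ⧸ H ≃ Fin C.n, F (QuotientGroup.mk (1 : G)) = ⟨0, hn⟩ ∧
      ∀ g : G, ∀ x : G ⧸ H, F (g • x) = φ g (F x) := by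
  obtain ⟨w, hw0, -, hw⟩ := hC.closed hD
  have hwi : ∀ i (hi : i < C.n), φ ((w i)⁻¹) ⟨0, hn⟩ = ⟨i, hi⟩ := by
    intro i
    induction i using Nat.strong_induction_on with
    | _ i ih =>
      intro hi
      obtain rfl | ⟨hp, hl, hpl⟩ := (hC i (Nat.zero_le _) hi).1
      · simp [hw0]
      set p := rpar (rowC C.t i) >>> 4
      set l := rpar (rowC C.t i) &&& 15
      have hpn : p < C.n := lt_trans hp hi
      have h2 := hw p hpn l hl
      unfold ERel at h2
      rw [hpl] at h2
      have h3 := hfix _ (H.inv_mem h2)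
      rw [mul_inv_rev, inv_inv, mul_inv_rev, map_mul, map_mul, Equiv.Perm.mul_apply,
        Equiv.Perm.mul_apply, ih p hp hpn, map_inv, hA.map l hl,
        inv_eq_of_mul_eq_one_right (sg_sq hC l)] at h3
      have h4 : sg hC l ⟨p, hpn⟩ = ⟨i, hi⟩ := Fin.ext (by rw [sg_apply hC hl]; exact hpl)
      rw [h4] at h3
      rw [map_inv, Equiv.Perm.inv_def, Equiv.symm_apply_eq]
      exact h3.symm
  let F0 : G ⧸ H → Fin C.n := Quotient.lift (fun g : G => φ g ⟨0, hn⟩) (by
    intro a b hab
    have h : a⁻¹ * b ∈ H := QuotientGroup.leftRel_apply.mp hab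
    have h2 := hfix _ h
    rw [map_mul, Equiv.Perm.mul_apply, map_inv, Equiv.Perm.inv_def, Equiv.symm_apply_eq] at h2
    exact h2.symm)
  have hsurj : Function.Surjective F0 := fun i => ⟨QuotientGroup.mk ((w i)⁻¹), hwi i i.isLt⟩
  have hinj : Function.Injective F0 := by
    intro x y
    induction x using QuotientGroup.induction_on with
    | _ a =>
    induction y using QuotientGroup.induction_on with
    | _ b =>
      intro h
      change φ a ⟨0, hn⟩ = φ b ⟨0, hn⟩ at h
      obtain ⟨i, hi, hiH⟩ := hC.exhaust hn hD.sq hw0 hw (a⁻¹ * b) (by rw [hgen]; trivial)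
      have h2 := hfix _ hiH
      rw [map_mul, map_mul, map_inv φ a, Equiv.Perm.mul_apply, Equiv.Perm.mul_apply,
        hwi i hi, Equiv.Perm.inv_def, Equiv.symm_apply_eq, h] at h2
      have h3 : i = 0 := congrArg Fin.val ((φ b).injective h2)
      subst h3
      exact QuotientGroup.eq.mpr (by simpa [hw0] using hiH)
  refine ⟨Equiv.ofBijective F0 ⟨hinj, hsurj⟩, ?_, fun g x => ?_⟩
  · change φ 1 ⟨0, hn⟩ = ⟨0, hn⟩
    rw [map_one, Equiv.Perm.one_apply]
  induction x using QuotientGroup.induction_on with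
  | _ a =>
    change φ (g * a) ⟨0, hn⟩ = φ g (φ a ⟨0, hn⟩)
    rw [map_mul, Equiv.Perm.mul_apply]

/-- one orbit step: parent point and generator letter -/
noncomputable def orbStep (t : Tr) (n : ℕ) (ls : List ℕ) (K v : ℕ) (k : ℕ → Bool) : Bool :=
  force (Nat.shiftRight v 4) fun p => force (Nat.land v 15) fun l => force (tgt t p l) fun q =>
    andB (bget K p) (andB (!bget K q) (andB (Nat.blt q n) (andB (ls.any (Nat.beq l))
      (force (Nat.lor K (Nat.shiftLeft 1 q)) k))))

/-- a chunk of packed orbit steps -/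
noncomputable def orbChunk (t : Tr) (n : ℕ) (ls : List ℕ) (fuel : ℕ) :
    ℕ → ℕ → ℕ → (ℕ → ℕ → Bool) → Bool :=
  Nat.rec (fun _ _ _ _ => false)
    (fun _ ih c K m k => ifB (Nat.beq c 0) (k K m)
      (force (Nat.xor (Nat.land c 16777215) 8388608) fun v => orbStep t n ls K v fun K' =>
        force (Nat.shiftRight c 24) fun c' => force (Nat.succ m) fun m' => ih c' K' m' k)) fuel

theorem orbChunk_succ (t : Tr) (n : ℕ) (ls : List ℕ) (fuel c K m : ℕ) (k : ℕ → ℕ → Bool) :
    orbChunk t n ls (fuel + 1) c K m k = ifB (Nat.beq c 0) (k K m)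
      (force (Nat.xor (Nat.land c 16777215) 8388608) fun v => orbStep t n ls K v fun K' =>
        force (Nat.shiftRight c 24) fun c' => force (Nat.succ m) fun m' =>
          orbChunk t n ls fuel c' K' m' k) := rfl

/-- all orbit chunks -/
noncomputable def orbAll (t : Tr) (n : ℕ) (ls : List ℕ) :
    List ℕ → ℕ → ℕ → (ℕ → ℕ → Bool) → Bool
  | [], K, m, k => k K m
  | c :: cs, K, m, k => orbChunk t n ls 200 c K m fun K' m' => orbAll t n ls cs K' m' k

/-- the set is closed under all letters -/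
noncomputable def orbClosed (t : Tr) (ls : List ℕ) (K m : ℕ) : Bool :=
  Nat.rec true (fun i ih => andB (force i fun i' =>
    ifB (bget K i') (force (rowC t i') fun r =>
      List.rec true (fun l _ rest => andB (force (rtgt r l) fun q => bget K q) rest) ls) true) ih) m

/-- `b` has at least `count` points in its orbit -/
noncomputable def orbLow (C : Cert) (ls : List ℕ) (b count : ℕ) (steps : List ℕ) : Bool :=
  Nat.blt b C.n && orbAll C.t C.n ls steps (0 ||| (1 <<< b)) 1 fun _ m => Nat.beq m count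

/-- `b` has exactly `count` points in its orbit -/
noncomputable def orbExact (C : Cert) (ls : List ℕ) (b count : ℕ) (steps : List ℕ) : Bool :=
  Nat.blt b C.n && orbAll C.t C.n ls steps (0 ||| (1 <<< b)) 1 fun K m =>
    Nat.beq m count && orbClosed C.t ls K C.n

/-- the invariant of an orbit search -/
def OInv (hC : C.OK) (ls : List ℕ) (b : Fin C.n) (K m : ℕ) : Prop :=
  ∃ s : Finset (Fin C.n), s.card = m ∧ b ∈ s ∧
    (∀ q : ℕ, bget K q = true ↔ ∃ x ∈ s, (x : ℕ) = q) ∧
    ∀ Y : Subgroup (Equiv.Perm (Fin C.n)), (∀ l ∈ ls, sg hC l ∈ Y) → ∀ x ∈ s, x ∈ MulAction.orbit Y b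

theorem orbStep_sound (hC : C.OK) {ls : List ℕ} (hls : ∀ l ∈ ls, l < C.L) {b : Fin C.n}
    {K m v : ℕ} {k : ℕ → Bool} (hK : OInv hC ls b K m) (h : orbStep C.t C.n ls K v k = true) :
    ∃ K', k K' = true ∧ OInv hC ls b K' (m + 1) := by
  unfold orbStep at h
  simp only [andB_eq, force_eq, Bool.and_eq_true, Bool.not_eq_true', Nat.blt_eq, List.any_eq_true,
    Nat.beq_eq] at h
  obtain ⟨hp, hq, hqn, ⟨l', hl', hll⟩, hk⟩ := h
  subst hll
  obtain ⟨s, hcard, hb, hbit, hY⟩ := hK
  obtain ⟨x, hx, hxp⟩ := (hbit _).mp hp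
  let q : Fin C.n := ⟨_, hqn⟩
  have hqs : q ∉ s := by
    intro hqs
    rw [(hbit _).mpr ⟨q, hqs, rfl⟩] at hq
    exact absurd hq (by simp)
  refine ⟨_, hk, insert q s, by rw [Finset.card_insert_of_notMem hqs, hcard],
    Finset.mem_insert_of_mem hb, fun z => ?_, ?_⟩
  · rw [show Nat.lor K (Nat.shiftLeft 1 (tgt C.t (Nat.shiftRight v 4) (Nat.land v 15))) =
      K ||| (1 <<< tgt C.t (Nat.shiftRight v 4) (Nat.land v 15)) from rfl]
    simp only [bget_set, Bool.or_eq_true, decide_eq_true_eq, Finset.exists_mem_insert, hbit]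
    exact ⟨fun h => h.symm, fun h => h.symm⟩
  · intro Y hgY z hz
    rcases Finset.mem_insert.mp hz with rfl | hz
    · have : q = sg hC (Nat.land v 15) x := by
        apply Fin.ext
        rw [sg_apply hC (hls _ hl'), hxp]
      rw [this]
      exact H45.orbit_closed_step (hgY _ hl') (hY Y hgY x hx)
    · exact hY Y hgY z hz

theorem orbChunk_sound (hC : C.OK) {ls : List ℕ} (hls : ∀ l ∈ ls, l < C.L) {b : Fin C.n} :
    ∀ (fuel c K m : ℕ) (k : ℕ → ℕ → Bool), OInv hC ls b K m →
      orbChunk C.t C.n ls fuel c K m k = true → ∃ K' m', k K' m' = true ∧ OInv hC ls b K' m' := by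
  intro fuel
  induction fuel with
  | zero => intro c K m k _ h; simp [orbChunk] at h
  | succ fuel ih =>
    intro c K m k hK h
    rw [orbChunk_succ, ifB_eq] at h
    cases hb : Nat.beq c 0
    · simp only [hb, cond_false, force_eq] at h
      obtain ⟨K', hk, hK'⟩ := orbStep_sound hC hls hK h
      exact ih _ _ _ _ hK' hk
    · simp only [hb, cond_true] at h
      exact ⟨K, m, h, hK⟩

theorem orbAll_sound (hC : C.OK) {ls : List ℕ} (hls : ∀ l ∈ ls, l < C.L) {b : Fin C.n} :
    ∀ (cs : List ℕ) (K m : ℕ) (k : ℕ → ℕ → Bool), OInv hC ls b K m →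
      orbAll C.t C.n ls cs K m k = true → ∃ K' m', k K' m' = true ∧ OInv hC ls b K' m' := by
  intro cs
  induction cs with
  | nil => intro K m k hK h; exact ⟨K, m, h, hK⟩
  | cons c cs ih =>
    intro K m k hK h
    simp only [orbAll] at h
    obtain ⟨K', m', h', hK'⟩ := orbChunk_sound hC hls _ _ _ _ _ hK h
    exact ih _ _ _ hK' h'

theorem OInv_init (hC : C.OK) (ls : List ℕ) (b : Fin C.n) :
    OInv hC ls b (0 ||| (1 <<< (b : ℕ))) 1 := by
  refine ⟨{b}, rfl, Finset.mem_singleton_self b, fun q => ?_, fun Y _ x hx => ?_⟩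
  · rw [bget_set, bget_eq]; simp
  · rw [Finset.mem_singleton] at hx
    subst hx; exact MulAction.mem_orbit_self _

theorem orbLow_sound (hC : C.OK) {ls : List ℕ} (hls : ∀ l ∈ ls, l < C.L) {b count : ℕ}
    {steps : List ℕ} (h : orbLow C ls b count steps = true) :
    ∃ hb : b < C.n, ∀ Y : Subgroup (Equiv.Perm (Fin C.n)), (∀ l ∈ ls, sg hC l ∈ Y) →
      count ≤ Nat.card (MulAction.orbit Y (⟨b, hb⟩ : Fin C.n)) := by
  unfold orbLow at h
  simp only [Bool.and_eq_true, Nat.blt_eq] at h
  obtain ⟨hb, h'⟩ := h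
  obtain ⟨K, m, hm, s, hcard, -, -, hY⟩ := orbAll_sound hC hls _ _ _ _ (OInv_init hC ls ⟨b, hb⟩) h'
  simp only [Nat.beq_eq] at hm
  refine ⟨hb, fun Y hgY => ?_⟩
  rw [← hm, ← hcard, ← Nat.card_eq_finsetCard]
  exact Nat.card_le_card_of_injective (fun x => ⟨x.1, hY Y hgY x.1 x.2⟩)
    (fun x y hxy => Subtype.ext (congrArg (fun z : MulAction.orbit Y _ => (z : Fin C.n)) hxy))

theorem orbClosed_sound {t : Tr} {ls : List ℕ} {K : ℕ} :
    ∀ {m : ℕ}, orbClosed t ls K m = true →
      ∀ i, i < m → bget K i = true → ∀ l ∈ ls, bget K (tgt t i l) = true := by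
  intro m
  induction m with
  | zero => intro _ i hi; omega
  | succ m ih =>
    intro h i hi
    have h' : orbClosed t ls K (m + 1) = andB (force m fun i' =>
        ifB (bget K i') (force (rowC t i') fun r =>
          List.rec true (fun l _ rest => andB (force (rtgt r l) fun q => bget K q) rest) ls) true)
          (orbClosed t ls K m) := rfl
    simp only [h', andB_eq, ifB_eq, force_eq, Bool.and_eq_true] at h
    rcases Nat.lt_succ_iff_lt_or_eq.mp hi with hi | rfl
    · exact ih h.2 i hi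
    · intro hK
      rw [hK, cond_true] at h
      have key : ∀ (xs : List ℕ) (r : ℕ),
          (List.rec true (fun l _ rest => bget K (rtgt r l) && rest) xs : Bool) = true →
          ∀ l ∈ xs, bget K (rtgt r l) = true := by
        intro xs
        induction xs with
        | nil => intro r _ l hl; simp at hl
        | cons x xs ih =>
          intro r hr l hl
          simp only [Bool.and_eq_true] at hr
          rcases List.mem_cons.mp hl with rfl | hl
          · exact hr.1
          · exact ih r hr.2 l hl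
      exact fun l hl => key ls _ h.1 l hl

theorem orbExact_sound (hC : C.OK) {ls : List ℕ} (hls : ∀ l ∈ ls, l < C.L) {b count : ℕ}
    {steps : List ℕ} (h : orbExact C ls b count steps = true) :
    ∃ hb : b < C.n, (MulAction.orbit (Subgroup.closure {y | ∃ l ∈ ls, sg hC l = y})
      (⟨b, hb⟩ : Fin C.n)).ncard = count := by
  unfold orbExact at h
  simp only [Bool.and_eq_true, Nat.blt_eq] at h
  obtain ⟨hb, h'⟩ := h
  obtain ⟨K, m, hm, s, hcard, hbs, hbit, hY⟩ :=
    orbAll_sound hC hls _ _ _ _ (OInv_init hC ls ⟨b, hb⟩) h'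
  simp only [Bool.and_eq_true, Nat.beq_eq] at hm
  refine ⟨hb, ?_⟩
  rw [← hm.1, ← hcard, ← Set.ncard_coe_finset]
  congr 1
  apply Set.Subset.antisymm
  · have hcl : ∀ l ∈ ls, ∀ x ∈ s, sg hC l x ∈ s := by
      intro l hl x hx
      have := orbClosed_sound hm.2 x x.isLt ((hbit _).mpr ⟨x, hx, rfl⟩) l hl
      rw [← sg_apply hC (hls l hl) x] at this
      obtain ⟨z, hz, hzx⟩ := (hbit _).mp this
      rwa [← Fin.ext hzx]
    have hle : Subgroup.closure {y | ∃ l ∈ ls, sg hC l = y} ≤
        MulAction.stabilizer (Equiv.Perm (Fin C.n)) (s : Set (Fin C.n)) := by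
      rw [Subgroup.closure_le]
      rintro _ ⟨l, hl, rfl⟩
      rw [SetLike.mem_coe, MulAction.mem_stabilizer_iff]
      refine Set.eq_of_subset_of_ncard_le ?_ (le_of_eq ?_) (Set.toFinite _)
      · rintro _ ⟨x, hx, rfl⟩
        exact Finset.mem_coe.mpr (hcl l hl x hx)
      · exact (Set.ncard_image_of_injective _ (MulAction.injective _)).symm
    rintro _ ⟨⟨y, hy⟩, rfl⟩
    have := hle hy
    rw [MulAction.mem_stabilizer_iff] at this
    have h2 : y • (⟨b, hb⟩ : Fin C.n) ∈ y • (s : Set (Fin C.n)) := Set.smul_mem_smul_set hbs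
    rw [this] at h2
    exact h2
  · intro x hx
    exact hY (Subgroup.closure {y | ∃ l ∈ ls, sg hC l = y})
      (fun l hl => Subgroup.subset_closure ⟨l, hl, rfl⟩) x hx

/-- one level of a stabiliser chain certificate -/
structure Lvl where
  base : ℕ
  ls : List ℕ
  count : ℕ
  steps : List ℕ

/-- the check of a stabiliser chain -/
noncomputable def chainCheck (C : Cert) : List Lvl → Bool
  | [] => true
  | lv :: rest =>
    lv.ls.all (fun l => Nat.blt l C.L) &&
      rest.all (fun lv' => lv'.ls.all fun l => Nat.beq (tgt C.t lv.base l) lv.base) &&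
      orbLow C lv.ls lv.base lv.count lv.steps && chainCheck C rest

/-- the product of the orbit lengths of a chain -/
def chainProd : List Lvl → ℕ
  | [] => 1
  | lv :: rest => lv.count * chainProd rest

theorem chainCheck_letters : ∀ {lvs : List Lvl}, chainCheck C lvs = true →
    ∀ lv ∈ lvs, ∀ l ∈ lv.ls, l < C.L := by
  intro lvs
  induction lvs with
  | nil => intro _ lv h; simp at h
  | cons a rest ih =>
    intro h
    simp only [chainCheck, Bool.and_eq_true, List.all_eq_true, Nat.blt_eq] at h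
    intro lv hlv
    rcases List.mem_cons.mp hlv with rfl | hlv
    · exact h.1.1.1
    · exact ih h.2 lv hlv

theorem chainCheck_sound (hC : C.OK) : ∀ {lvs : List Lvl},
    chainCheck C lvs = true → ∀ Y : Subgroup (Equiv.Perm (Fin C.n)),
      (∀ lv ∈ lvs, ∀ l ∈ lv.ls, sg hC l ∈ Y) → chainProd lvs ≤ Nat.card Y := by
  intro lvs
  induction lvs with
  | nil => intro _ Y _; exact Nat.card_pos
  | cons lv rest ih =>
    intro h Y hY
    have hlet := chainCheck_letters h
    simp only [chainCheck, Bool.and_eq_true] at h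
    obtain ⟨⟨⟨-, hfix⟩, horb⟩, hrest⟩ := h
    obtain ⟨hb, hcount⟩ := orbLow_sound hC (hlet lv List.mem_cons_self) horb
    let b : Fin C.n := ⟨lv.base, hb⟩
    have h1 : chainProd rest ≤ Nat.card (Y ⊓ MulAction.stabilizer _ b : Subgroup _) := by
      refine ih hrest _ fun lv' hlv' g hg => Subgroup.mem_inf.mpr
        ⟨hY lv' (List.mem_cons_of_mem _ hlv') g hg, ?_⟩
      have h2 := (List.all_eq_true.mp ((List.all_eq_true.mp hfix) lv' hlv')) g hg
      simp only [Nat.beq_eq] at h2
      rw [MulAction.mem_stabilizer_iff, Equiv.Perm.smul_def]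
      apply Fin.ext
      rw [sg_apply hC (hlet lv' (List.mem_cons_of_mem _ hlv') g hg)]
      exact h2
    have h2 : Nat.card (MulAction.orbit Y b) * Nat.card (MulAction.stabilizer Y b) = Nat.card Y := by
      rw [← Nat.card_prod]
      exact Nat.card_congr (MulAction.orbitProdStabilizerEquivGroup Y b)
    have h3 : Nat.card (MulAction.stabilizer Y b) =
        Nat.card (Y ⊓ MulAction.stabilizer (Equiv.Perm (Fin C.n)) b : Subgroup _) :=
      Nat.card_congr ⟨fun x => ⟨x.1.1, x.1.2, x.2⟩, fun x => ⟨⟨x.1, x.2.1⟩, x.2.2⟩,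
        fun _ => rfl, fun _ => rfl⟩
    rw [← h2, h3]
    exact Nat.mul_le_mul (hcount Y fun g hg => hY lv List.mem_cons_self g hg) h1

/-- lower bound and faithfulness from a chain -/
theorem card_eq_of_chain {hC : C.OK} {e : ℕ → G} {φ : G →* Equiv.Perm (Fin C.n)}
    (hA : Act hC e φ) {X : Subgroup G} [Finite X] {m : ℕ} (hle : Nat.card X ≤ m) {lvs : List Lvl}
    (hc : chainCheck C lvs = true) (hm : chainProd lvs = m)
    (hX : ∀ lv ∈ lvs, ∀ l ∈ lv.ls, e l ∈ X) :
    Nat.card X = m ∧ Set.InjOn φ X := by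
  have h1 : m ≤ Nat.card (X.map φ) := by
    rw [← hm]
    refine chainCheck_sound hC hc _ fun lv hlv l hl => ?_
    exact ⟨e l, hX lv hlv l hl, hA.map l (chainCheck_letters hc lv hlv l hl)⟩
  let ψ : X → X.map φ := fun x => ⟨φ x, Subgroup.mem_map_of_mem φ x.2⟩
  have hψ : Function.Surjective ψ := by
    rintro ⟨_, x, hx, rfl⟩; exact ⟨⟨x, hx⟩, rfl⟩
  have h2 : Nat.card (X.map φ) ≤ Nat.card X := Nat.card_le_card_of_surjective ψ hψ
  refine ⟨le_antisymm hle (h1.trans h2), fun a ha b hb hab => ?_⟩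
  have : Function.Bijective ψ :=
    (Nat.bijective_iff_surjective_and_card _).mpr ⟨hψ, le_antisymm (hle.trans h1) h2⟩
  exact congrArg Subtype.val (@this.1 ⟨a, ha⟩ ⟨b, hb⟩ (Subtype.ext hab))

/-- check a predicate on an interval -/
noncomputable def allFrom (f : ℕ → Bool) (k : ℕ) : ℕ → Bool :=
  Nat.rec (fun _ => true) (fun _ ih a => andB (f a) (force (Nat.succ a) fun a' => ih a')) k

theorem allFrom_sound {f : ℕ → Bool} : ∀ {k a : ℕ}, allFrom f k a = true →
    ∀ i, a ≤ i → i < a + k → f i = true := by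
  intro k
  induction k with
  | zero => intro a _ i h1 h2; omega
  | succ k ih =>
    intro a h i h1 h2
    have h' : allFrom f (k + 1) a = andB (f a) (force (Nat.succ a) fun a' => allFrom f k a') := rfl
    simp only [h', andB_eq, force_eq, Bool.and_eq_true] at h
    rcases Nat.lt_or_ge a i with h3 | h3
    · exact ih h.2 i h3 (by omega)
    · obtain rfl : i = a := by omega
      exact h.1

end Cfsg.Agent.H25.Fi23
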