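import Cfsg.Agent.H25.Fi23.C31671AuxData

/-!
Generated checks of auxiliary words.
-/

set_option autoImplicit false
set_option Elab.async false

namespace Cfsg.Agent.H25.Fi23.C31671

set_option maxRecDepth 100000 in
theorem aux0 : allFrom auxOK 1000 0 = true := by decide +kernel

set_option maxRecDepth 100000 in
theorem aux1000 : allFrom auxOK 1000 1000 = true := by decide +kernel

set_option maxRecDepth 100000 in
theorem aux2000 : allFrom auxOK 1000 2000 = true := by decide +kernel

set_option maxRecDepth 100000 in
theorem aux3000 : allFrom auxOK 1000 3000 = true := by decide +kernel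

set_option maxRecDepth 100000 in
theorem aux4000 : allFrom auxOK 1000 4000 = true := by decide +kernel

set_option maxRecDepth 100000 in
theorem aux5000 : allFrom auxOK 1000 5000 = true := by decide +kernel

set_option maxRecDepth 100000 in
theorem aux6000 : allFrom auxOK 1000 6000 = true := by decide +kernel

set_option maxRecDepth 100000 in
theorem aux7000 : allFrom auxOK 1000 7000 = true := by decide +kernel

theorem auxRange0 : ∀ i, 0 ≤ i → i < 8000 → auxOK i = true := by
  intro i h1 h2
  by_cases c0 : i < 1000
  · exact allFrom_sound aux0 i (by omega) (by omega)
  by_cases c1000 : i < 2000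
  · exact allFrom_sound aux1000 i (by omega) (by omega)
  by_cases c2000 : i < 3000
  · exact allFrom_sound aux2000 i (by omega) (by omega)
  by_cases c3000 : i < 4000
  · exact allFrom_sound aux3000 i (by omega) (by omega)
  by_cases c4000 : i < 5000
  · exact allFrom_sound aux4000 i (by omega) (by omega)
  by_cases c5000 : i < 6000
  · exact allFrom_sound aux5000 i (by omega) (by omega)
  by_cases c6000 : i < 7000
  · exact allFrom_sound aux6000 i (by omega) (by omega)
  exact allFrom_sound aux7000 i (by omega) (by omega)

end Cfsg.Agent.H25.Fi23.C31671
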