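import Cfsg.Agent.H25.Fi23.C31671AuxData

/-!
Generated checks of auxiliary words.
-/

set_option autoImplicit false
set_option Elab.async false

namespace Cfsg.Agent.H25.Fi23.C31671

set_option maxRecDepth 100000 in
theorem aux16000 : allFrom auxOK 1000 16000 = true := by decide +kernel

set_option maxRecDepth 100000 in
theorem aux17000 : allFrom auxOK 1000 17000 = true := by decide +kernel

set_option maxRecDepth 100000 in
theorem aux18000 : allFrom auxOK 1000 18000 = true := by decide +kernel

set_option maxRecDepth 100000 in
theorem aux19000 : allFrom auxOK 1000 19000 = true := by decide +kernel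

set_option maxRecDepth 100000 in
theorem aux20000 : allFrom auxOK 1000 20000 = true := by decide +kernel

set_option maxRecDepth 100000 in
theorem aux21000 : allFrom auxOK 1000 21000 = true := by decide +kernel

set_option maxRecDepth 100000 in
theorem aux22000 : allFrom auxOK 1000 22000 = true := by decide +kernel

set_option maxRecDepth 100000 in
theorem aux23000 : allFrom auxOK 1000 23000 = true := by decide +kernel

theorem auxRange2 : ∀ i, 16000 ≤ i → i < 24000 → auxOK i = true := by
  intro i h1 h2
  by_cases c16000 : i < 17000
  · exact allFrom_sound aux16000 i (by omega) (by omega)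
  by_cases c17000 : i < 18000
  · exact allFrom_sound aux17000 i (by omega) (by omega)
  by_cases c18000 : i < 19000
  · exact allFrom_sound aux18000 i (by omega) (by omega)
  by_cases c19000 : i < 20000
  · exact allFrom_sound aux19000 i (by omega) (by omega)
  by_cases c20000 : i < 21000
  · exact allFrom_sound aux20000 i (by omega) (by omega)
  by_cases c21000 : i < 22000
  · exact allFrom_sound aux21000 i (by omega) (by omega)
  by_cases c22000 : i < 23000
  · exact allFrom_sound aux22000 i (by omega) (by omega)
  exact allFrom_sound aux23000 i (by omega) (by omega)

end Cfsg.Agent.H25.Fi23.C31671
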