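import Cfsg.Agent.H25.Fi23.C31671AuxData

/-!
Generated checks of auxiliary words.
-/

set_option autoImplicit false
set_option Elab.async false

namespace Cfsg.Agent.H25.Fi23.C31671

set_option maxRecDepth 100000 in
theorem aux24000 : allFrom auxOK 1000 24000 = true := by decide +kernel

set_option maxRecDepth 100000 in
theorem aux25000 : allFrom auxOK 1000 25000 = true := by decide +kernel

set_option maxRecDepth 100000 in
theorem aux26000 : allFrom auxOK 1000 26000 = true := by decide +kernel

set_option maxRecDepth 100000 in
theorem aux27000 : allFrom auxOK 1000 27000 = true := by decide +kernel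

set_option maxRecDepth 100000 in
theorem aux28000 : allFrom auxOK 1000 28000 = true := by decide +kernel

set_option maxRecDepth 100000 in
theorem aux29000 : allFrom auxOK 1000 29000 = true := by decide +kernel

set_option maxRecDepth 100000 in
theorem aux30000 : allFrom auxOK 1000 30000 = true := by decide +kernel

set_option maxRecDepth 100000 in
theorem aux31000 : allFrom auxOK 671 31000 = true := by decide +kernel

theorem auxRange3 : ∀ i, 24000 ≤ i → i < 31671 → auxOK i = true := by
  intro i h1 h2
  by_cases c24000 : i < 25000
  · exact allFrom_sound aux24000 i (by omega) (by omega)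
  by_cases c25000 : i < 26000
  · exact allFrom_sound aux25000 i (by omega) (by omega)
  by_cases c26000 : i < 27000
  · exact allFrom_sound aux26000 i (by omega) (by omega)
  by_cases c27000 : i < 28000
  · exact allFrom_sound aux27000 i (by omega) (by omega)
  by_cases c28000 : i < 29000
  · exact allFrom_sound aux28000 i (by omega) (by omega)
  by_cases c29000 : i < 30000
  · exact allFrom_sound aux29000 i (by omega) (by omega)
  by_cases c30000 : i < 31000
  · exact allFrom_sound aux30000 i (by omega) (by omega)
  exact allFrom_sound aux31000 i (by omega) (by omega)

end Cfsg.Agent.H25.Fi23.C31671
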