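import Cfsg.Agent.H25.Fi23.C31671Aux0
import Cfsg.Agent.H25.Fi23.C31671Aux1
import Cfsg.Agent.H25.Fi23.C31671Aux2
import Cfsg.Agent.H25.Fi23.C31671Aux3

/-!
The auxiliary checks hold everywhere.
-/

set_option autoImplicit false

namespace Cfsg.Agent.H25.Fi23.C31671

theorem auxOK_all : ∀ i, i < 31671 → auxOK i = true := by
  intro i hi
  by_cases c0 : i < 8000
  · exact auxRange0 i (by omega) (by omega)
  by_cases c1 : i < 16000
  · exact auxRange1 i (by omega) (by omega)
  by_cases c2 : i < 24000
  · exact auxRange2 i (by omega) (by omega)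
  exact auxRange3 i (by omega) (by omega)

end Cfsg.Agent.H25.Fi23.C31671
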