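import Cfsg.Agent.H25.Fi23.C31671Words

/-!
Generated relator checks.
-/

set_option autoImplicit false
set_option Elab.async false

namespace Cfsg.Agent.H25.Fi23.C31671

set_option maxRecDepth 100000 in
theorem perm0 : allFrom relOK 1000 0 = true := by decide +kernel

set_option maxRecDepth 100000 in
theorem perm1000 : allFrom relOK 1000 1000 = true := by decide +kernel

set_option maxRecDepth 100000 in
theorem perm2000 : allFrom relOK 1000 2000 = true := by decide +kernel

set_option maxRecDepth 100000 in
theorem perm3000 : allFrom relOK 1000 3000 = true := by decide +kernel

set_option maxRecDepth 100000 in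
theorem perm4000 : allFrom relOK 1000 4000 = true := by decide +kernel

set_option maxRecDepth 100000 in
theorem perm5000 : allFrom relOK 1000 5000 = true := by decide +kernel

set_option maxRecDepth 100000 in
theorem perm6000 : allFrom relOK 1000 6000 = true := by decide +kernel

set_option maxRecDepth 100000 in
theorem perm7000 : allFrom relOK 1000 7000 = true := by decide +kernel

theorem permRange0 : ∀ i, 0 ≤ i → i < 8000 → relOK i = true := by
  intro i h1 h2
  by_cases c0 : i < 1000
  · exact allFrom_sound perm0 i (by omega) (by omega)
  by_cases c1000 : i < 2000
  · exact allFrom_sound perm1000 i (by omega) (by omega)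
  by_cases c2000 : i < 3000
  · exact allFrom_sound perm2000 i (by omega) (by omega)
  by_cases c3000 : i < 4000
  · exact allFrom_sound perm3000 i (by omega) (by omega)
  by_cases c4000 : i < 5000
  · exact allFrom_sound perm4000 i (by omega) (by omega)
  by_cases c5000 : i < 6000
  · exact allFrom_sound perm5000 i (by omega) (by omega)
  by_cases c6000 : i < 7000
  · exact allFrom_sound perm6000 i (by omega) (by omega)
  exact allFrom_sound perm7000 i (by omega) (by omega)

end Cfsg.Agent.H25.Fi23.C31671
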