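import Cfsg.Agent.H25.Fi23.Cover

/-!
The class of the central involution of the double cover as a class of 3-transpositions.
-/

set_option autoImplicit false

namespace Cfsg.Agent.H25.Fi23

open Cfsg.Spor

theorem isFi23 : IsFi23 X := ⟨isSimple, order_facts.2.1⟩

theorem nonsplit_congr {A B K : Type*} [Group A] [Group B] [Group K] (e : A ≃* B)
    (h : IsNonsplitDoubleCover A K) : IsNonsplitDoubleCover B K := by
  obtain ⟨hc, ⟨q⟩, hns⟩ := h
  have hmap : (Subgroup.center A).map e.toMonoidHom = Subgroup.center B := by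
    ext b
    rw [Subgroup.mem_map, Subgroup.mem_center_iff]
    constructor
    · rintro ⟨a, ha, rfl⟩ g
      obtain ⟨g', rfl⟩ := e.surjective g
      change e g' * e a = e a * e g'
      rw [← map_mul, ← map_mul, Subgroup.mem_center_iff.mp ha g']
    · intro hb
      refine ⟨e.symm b, Subgroup.mem_center_iff.mpr fun g => ?_, e.apply_symm_apply b⟩
      apply e.injective
      simp [hb (e g)]
  refine ⟨?_, ⟨(QuotientGroup.congr _ _ e hmap).symm.trans q⟩, fun L hL => ?_⟩
  · rw [← hmap, Nat.card_congr ((Subgroup.center A).equivMapOfInjective e.toMonoidHom e.injective).toEquiv.symm]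
    exact hc
  · apply hns (L.comap e.toMonoidHom)
    rw [Subgroup.isComplement'_def, Subgroup.isComplement_iff_existsUnique] at hL ⊢
    intro a
    obtain ⟨⟨⟨z, hz⟩, ⟨l, hl⟩⟩, he, huniq⟩ := hL (e a)
    have hz' : e.symm z ∈ Subgroup.center A := by
      rw [SetLike.mem_coe, ← hmap] at hz
      obtain ⟨z', hz', rfl⟩ := hz
      simpa using hz'
    refine ⟨⟨⟨e.symm z, hz'⟩, ⟨e.symm l, show e (e.symm l) ∈ L by rwa [e.apply_symm_apply]⟩⟩,
      ?_, ?_⟩
    · change e.symm z * e.symm l = a
      rw [← map_mul, show z * l = e a from he, e.symm_apply_apply]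
    · rintro ⟨⟨z', hz''⟩, ⟨l', hl'⟩⟩ he'
      have hzB : e z' ∈ Subgroup.center B := hmap ▸ Subgroup.mem_map_of_mem e.toMonoidHom hz''
      have := huniq ⟨⟨e z', hzB⟩, ⟨e l', hl'⟩⟩ (by
        change e z' * e l' = e a
        rw [← map_mul]
        exact congrArg e he')
      have h1 : e z' = z := congrArg (fun p => (p.1 : B)) this
      have h2 : e l' = l := congrArg (fun p => (p.2 : B)) this
      refine Prod.ext (Subtype.ext ?_) (Subtype.ext ?_)
      · change z' = e.symm z; rw [← h1, e.symm_apply_apply]
      · change l' = e.symm l; rw [← h2, e.symm_apply_apply]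

theorem three_transposition_class :
    IsThreeTranspositionClass (conjugatesOf zEl : Set X) ∧ Nat.card (conjugatesOf zEl : Set X) = 31671 := by
  obtain ⟨φ, hA, hinj, -⟩ := setup
  have hord : orderOf zEl = 2 :=
    orderOf_eq_prime (by rw [pow_two]; exact zEl_sq hA hinj) (zEl_ne_one hA hinj)
  refine ⟨⟨⟨?_, ?_⟩, ⟨zEl, mem_conjugatesOf_self, rfl⟩, ?_⟩, ?_⟩
  · intro d hd
    obtain ⟨x, rfl⟩ := isConj_iff.mp hd
    rw [← hord]
    exact orderOf_injective (MulAut.conj x).toMonoidHom (MulAut.conj x).injective zEl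
  · intro d hd e he
    obtain ⟨x, rfl⟩ := isConj_iff.mp hd
    obtain ⟨y, rfl⟩ := isConj_iff.mp he
    exact three_transposition x y
  · have hn : (Subgroup.closure (conjugatesOf zEl : Set X)).Normal := by
      constructor
      intro n hn g
      induction hn using Subgroup.closure_induction with
      | mem d hd =>
        refine Subgroup.subset_closure ?_
        exact hd.trans (isConj_iff.mpr ⟨g, rfl⟩)
      | one => simp
      | mul a b _ _ iha ihb =>
        simpa [mul_assoc] using mul_mem iha ihb
      | inv a _ iha =>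
        simpa [mul_assoc] using inv_mem iha
    rcases isSimple.eq_bot_or_eq_top_of_normal _ hn with h | h
    · exfalso
      have := Subgroup.subset_closure (k := (conjugatesOf zEl : Set X)) mem_conjugatesOf_self
      rw [h, SetLike.mem_coe, Subgroup.mem_bot] at this
      exact zEl_ne_one hA hinj this
    · exact h
  · have key : ∀ a b : X, a * zEl * a⁻¹ = b * zEl * b⁻¹ ↔ a⁻¹ * b ∈ H := by
      intro a b
      rw [← centralizer_zEl, Subgroup.mem_centralizer_singleton_iff]
      constructor
      · intro h
        calc a⁻¹ * b * zEl = a⁻¹ * (b * zEl * b⁻¹) * b := by group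
          _ = a⁻¹ * (a * zEl * a⁻¹) * b := by rw [h]
          _ = zEl * (a⁻¹ * b) := by group
      · intro h
        calc a * zEl * a⁻¹ = a * (zEl * (a⁻¹ * b)) * b⁻¹ := by group
          _ = a * (a⁻¹ * b * zEl) * b⁻¹ := by rw [h]
          _ = b * zEl * b⁻¹ := by group
    let F : X ⧸ H → (conjugatesOf zEl : Set X) := Quotient.lift
      (fun a => ⟨a * zEl * a⁻¹, isConj_iff.mpr ⟨a, rfl⟩⟩)
      (fun a b h => Subtype.ext ((key a b).mpr (QuotientGroup.leftRel_apply.mp h)))
    have hF : Function.Bijective F := by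
      constructor
      · intro p q
        induction p using QuotientGroup.induction_on with
        | _ a =>
        induction q using QuotientGroup.induction_on with
        | _ b =>
          intro h
          exact QuotientGroup.eq.mpr ((key a b).mp (congrArg Subtype.val h))
      · rintro ⟨d, hd⟩
        obtain ⟨x, rfl⟩ := isConj_iff.mp hd
        exact ⟨QuotientGroup.mk x, rfl⟩
    rw [← Nat.card_congr (Equiv.ofBijective F hF)]
    exact H_index

theorem centralizer_cover {d : X} (hd : d ∈ conjugatesOf zEl) :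
    IsNonsplitDoubleCover (Subgroup.centralizer ({d} : Set X)) Cfsg.Spor.Fi22 := by
  obtain ⟨x, rfl⟩ := isConj_iff.mp hd
  have hmap : H.map (MulAut.conj x).toMonoidHom = Subgroup.centralizer {x * zEl * x⁻¹} := by
    rw [← centralizer_zEl]
    ext g
    rw [Subgroup.mem_map, Subgroup.mem_centralizer_singleton_iff]
    constructor
    · rintro ⟨c, hc, rfl⟩
      rw [Subgroup.mem_centralizer_singleton_iff] at hc
      change x * c * x⁻¹ * (x * zEl * x⁻¹) = x * zEl * x⁻¹ * (x * c * x⁻¹)
      calc x * c * x⁻¹ * (x * zEl * x⁻¹) = x * (c * zEl) * x⁻¹ := by group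
        _ = x * (zEl * c) * x⁻¹ := by rw [hc]
        _ = _ := by group
    · intro h
      refine ⟨x⁻¹ * g * x, ?_, by change x * (x⁻¹ * g * x) * x⁻¹ = g; group⟩
      rw [Subgroup.mem_centralizer_singleton_iff]
      calc x⁻¹ * g * x * zEl = x⁻¹ * (g * (x * zEl * x⁻¹)) * x := by group
        _ = x⁻¹ * (x * zEl * x⁻¹ * g) * x := by rw [h]
        _ = _ := by group
  exact nonsplit_congr ((H.equivMapOfInjective _ (MulAut.conj x).injective).trans
    (MulEquiv.subgroupCongr hmap)) cover

end Cfsg.Agent.H25.Fi23
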