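import Cfsg.Prelude.Def_Sporadic
import Cfsg.Prelude.Def_SporadicB
import Cfsg.Agent.H25.Fi23.Bridge
import Cfsg.Agent.H25.Fi23.C31671AuxOK
import Cfsg.Agent.H45.Fi22Top

/-!
The presented group `Cfsg.Spor.Fi23`: simplicity, the double cover of `Cfsg.Spor.Fi22`, and the
class of 3-transpositions.
-/

set_option autoImplicit false

namespace Cfsg.Agent.H25.Fi23

open Cfsg.Spor
open Cfsg.Agent.H45 (evalW evalW_append evalW_cons evalW_nil)

theorem evalW_pow {G : Type*} [Group G] (e : ℕ → G) (m : ℕ) (w : List ℕ) :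
    evalW e (List.replicate m w).flatten = evalW e w ^ m := by
  induction m with
  | zero => simp [evalW]
  | succ m ih => rw [List.replicate_succ, List.flatten_cons, evalW_append, ih, pow_succ']

/-- the word of the central involution of the subgroup -/
def zWord : List ℕ := (List.replicate 9 C31671.wordV).flatten

/-- the central involution of the subgroup -/
noncomputable def zEl : X := evalW pres.e zWord

theorem letters_lt : ((zWord ++ C31671.wordY ++ C31671.wordG ++ C31671.wordV ++ [7] ++ [0]).all
    fun l => Nat.blt l 10) = true := by decide +kernel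

theorem lt_of_mem {l : ℕ}
    (h : l ∈ zWord ++ C31671.wordY ++ C31671.wordG ++ C31671.wordV ++ [7] ++ [0]) : l < 10 := by
  simpa using List.all_eq_true.mp letters_lt l h

theorem lt_zWord : ∀ l ∈ zWord, l < 10 := fun l hl => lt_of_mem (by simp [hl])

theorem lt_wordY : ∀ l ∈ C31671.wordY, l < 10 := fun l hl => lt_of_mem (by simp [hl])

theorem lt_wordG : ∀ l ∈ C31671.wordG, l < 10 := fun l hl => lt_of_mem (by simp [hl])

theorem lt_wordV : ∀ l ∈ C31671.wordV, l < 10 := fun l hl => lt_of_mem (by simp [hl])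

/-- the table -/
local notation "TT" => C31671.cert.t

/-- the column of the central involution -/
local notation "zc" => uget C31671.colZ

theorem cert_L : C31671.cert.L = 10 := rfl

theorem cert_n : C31671.cert.n = 31671 := rfl

theorem conjProd_eq (g : List ℕ) (i : ℕ) (k : ℕ → Bool) :
    C31671.conjProd g i k = k (walkV TT g.reverse (zc (walkV TT g (zc i)))) := by
  simp only [C31671.conjProd, H45.force_eq, walk_eq]

theorem aux_facts {i : ℕ} (hi : i < 31671) :
    walkV TT C31671.wordV i = uget C31671.colV i ∧ (uget C31671.colV)^[9] i = zc i ∧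
    zc (zc i) = i ∧ (∀ l ∈ C31671.subLetters, zc (tgt TT i l) = tgt TT (zc i) l) ∧
    powOK TT C31671.colU C31671.wordY 23 i = true ∧
    powOK TT C31671.colAU (0 :: C31671.wordY) 23 i = true ∧
    (let f := fun x => walkV TT [7].reverse (zc (walkV TT [7] (zc x))); f (f (f i)) = i) ∧
    (let f := fun x => walkV TT C31671.wordG.reverse (zc (walkV TT C31671.wordG (zc x)));
      f (f i) = i) := by
  have h := C31671.auxOK_all i hi
  simp only [C31671.auxOK, andB_eq, walk_eq, uiter_eq, conjProd_eq, Bool.and_eq_true, Nat.beq_eq,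
    List.all_eq_true] at h
  obtain ⟨h1, h2, h3, h4, h5, h6, h7, h8⟩ := h
  exact ⟨h1.symm, h2.symm, h3, h4, h5, h6, h7, h8⟩

theorem walk_zWord {i : ℕ} (hi : i < 31671) : walkV TT zWord i = zc i := by
  have hit : ∀ m p, p < 31671 →
      walkV TT (List.replicate m C31671.wordV).flatten p = (uget C31671.colV)^[m] p := by
    intro m
    induction m with
    | zero => intro p _; rfl
    | succ m ih =>
      intro p hp
      rw [List.replicate_succ, List.flatten_cons, walkV_append,
        ih _ (walkV_lt C31671.cert_ok _ lt_wordV p hp), Function.iterate_succ_apply,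
        (aux_facts hp).1]
  rw [zWord, hit 9 i hi, (aux_facts hi).2.1]

theorem zc_lt {i : ℕ} (hi : i < 31671) : zc i < 31671 := by
  rw [← walk_zWord hi]; exact walkV_lt C31671.cert_ok _ lt_zWord i hi

variable {φ : X →* Equiv.Perm (Fin C31671.cert.n)} (hA : Act C31671.cert_ok pres.e φ)
  (hinj : Function.Injective φ)
include hA hinj

theorem one_of_walk {u : List ℕ} (hu : ∀ l ∈ u, l < 10)
    (h : ∀ i, i < 31671 → walkV TT u i = i) : evalW pres.e u = 1 := by
  apply hinj
  rw [map_one, hA.evalW u hu, evalW_sg_eq_one C31671.cert_ok hu h]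

theorem zEl_sq : zEl * zEl = 1 := by
  rw [zEl, ← evalW_append]
  refine one_of_walk hA hinj (fun l hl => ?_) fun i hi => ?_
  · rcases List.mem_append.mp hl with h | h <;> exact lt_zWord l h
  · rw [walkV_append, walk_zWord hi, walk_zWord (zc_lt hi), (aux_facts hi).2.2.1]

theorem zEl_comm {l : ℕ} (hl : l ∈ hLetters) : zEl * pres.e l = pres.e l * zEl := by
  have hl10 : l < 10 := (fix_hLetters l hl).1
  have h : evalW pres.e (zWord ++ [l] ++ zWord ++ [l]) = 1 := by
    refine one_of_walk hA hinj (fun x hx => ?_) fun i hi => ?_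
    · simp only [List.mem_append, List.mem_singleton] at hx
      rcases hx with ((h | h) | h) | h
      · exact lt_zWord x h
      · omega
      · exact lt_zWord x h
      · omega
    · have hlt := (C31671.cert_ok.edge hi hl10).1
      rw [walkV_append, walkV_append, walkV_append, walk_zWord hi]
      change tgt TT (walkV TT zWord (tgt TT (zc i) l)) l = i
      rw [← (aux_facts hi).2.2.2.1 l hl, walk_zWord (zc_lt hlt), (aux_facts hlt).2.2.1]
      exact (C31671.cert_ok.edge hi hl10).2.1
  have hz := zEl_sq hA hinj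
  simp only [evalW_append] at h
  rw [show evalW pres.e [l] = pres.e l by simp [evalW]] at h
  have h' : zEl * pres.e l * zEl * pres.e l = 1 := h
  have hs := pres_sq l
  calc zEl * pres.e l = zEl * pres.e l * zEl * pres.e l * (pres.e l * zEl) := by
        simp [mul_assoc, ← mul_assoc (pres.e l) (pres.e l), hs, hz]
    _ = pres.e l * zEl := by rw [h', one_mul]

omit hinj in
theorem zEl_apply (i : Fin C31671.cert.n) : ((φ zEl)⁻¹ i : ℕ) = zc i := by
  rw [zEl, hA.evalW zWord lt_zWord, sg_walk C31671.cert_ok zWord lt_zWord,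
    walk_zWord i.isLt]

omit hinj in
theorem word_apply {g : List ℕ} (hg : ∀ l ∈ g, l < 10) (i : Fin C31671.cert.n) :
    ((φ (evalW pres.e g))⁻¹ i : ℕ) = walkV TT g i := by
  rw [hA.evalW g hg, sg_walk C31671.cert_ok g hg]

/-- a conjugate of the involution by a word, times the involution -/
theorem conj_pow_eq_one {g : List ℕ} (hg : ∀ l ∈ g, l < 10) {m : ℕ}
    (h : ∀ i, i < 31671 → (fun x => walkV TT g.reverse (zc (walkV TT g (zc x))))^[m] i = i) :
    (zEl * (evalW pres.e g * zEl * (evalW pres.e g)⁻¹)) ^ m = 1 := by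
  have hg' : ∀ l ∈ g.reverse, l < 10 := fun l hl => hg l (List.mem_reverse.mp hl)
  have hW : ∀ l ∈ zWord ++ g ++ zWord ++ g.reverse, l < 10 := by
    intro l hl
    simp only [List.mem_append] at hl
    rcases hl with ((h | h) | h) | h
    exacts [lt_zWord l h, hg l h, lt_zWord l h, hg' l h]
  have e1 : evalW pres.e (zWord ++ g ++ zWord ++ g.reverse) =
      zEl * (evalW pres.e g * zEl * (evalW pres.e g)⁻¹) := by
    rw [evalW_append, evalW_append, evalW_append, evalW_reverse, zEl]
    simp only [mul_assoc]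
  rw [← e1, ← evalW_pow]
  have hwalk : ∀ x, x < 31671 → walkV TT (zWord ++ g ++ zWord ++ g.reverse) x =
      walkV TT g.reverse (zc (walkV TT g (zc x))) := by
    intro x hx
    rw [walkV_append, walkV_append, walkV_append, walk_zWord hx,
      walk_zWord (walkV_lt C31671.cert_ok g hg _ (zc_lt hx))]
  have hpow : ∀ (k : ℕ) x, x < 31671 →
      walkV TT (List.replicate k (zWord ++ g ++ zWord ++ g.reverse)).flatten x =
        (fun x => walkV TT g.reverse (zc (walkV TT g (zc x))))^[k] x := by
    intro k
    induction k with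
    | zero => intro x _; rfl
    | succ k ih =>
      intro x hx
      rw [List.replicate_succ, List.flatten_cons, walkV_append, hwalk x hx,
        Function.iterate_succ_apply]
      exact ih _ (walkV_lt C31671.cert_ok _ hg' _ (zc_lt (walkV_lt C31671.cert_ok _ hg _ (zc_lt hx))))
  refine one_of_walk hA hinj (fun l hl => ?_) fun i hi => by rw [hpow m i hi, h i hi]
  obtain ⟨v, hv, hlv⟩ := List.mem_flatten.mp hl
  rw [List.eq_of_mem_replicate hv] at hlv
  exact hW l hlv

theorem conj_j_cube :
    (zEl * (evalW pres.e [7] * zEl * (evalW pres.e [7])⁻¹)) ^ 3 = 1 :=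
  conj_pow_eq_one hA hinj (by decide) fun _ hi => (aux_facts hi).2.2.2.2.2.2.1

theorem conj_g_sq : (zEl * (evalW pres.e C31671.wordG * zEl *
    (evalW pres.e C31671.wordG)⁻¹)) ^ 2 = 1 :=
  conj_pow_eq_one hA hinj lt_wordG fun _ hi => (aux_facts hi).2.2.2.2.2.2.2

omit hinj in
theorem not_commute_word {g : List ℕ} (hg : ∀ l ∈ g, l < 10) {i : ℕ} (hi : i < 31671)
    (h : zc (walkV TT g i) ≠ walkV TT g (zc i)) :
    ¬ evalW pres.e g * zEl = zEl * evalW pres.e g := by
  intro hc
  apply h
  have h1 : (φ (evalW pres.e g * zEl))⁻¹ ⟨i, hi⟩ = (φ (zEl * evalW pres.e g))⁻¹ ⟨i, hi⟩ := by rw [hc]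
  simp only [map_mul, mul_inv_rev, Equiv.Perm.mul_apply] at h1
  have h2 := congrArg Fin.val h1
  rwa [zEl_apply hA, word_apply hA hg, word_apply hA hg, zEl_apply hA] at h2

theorem zEl_mem : zEl ∈ H := by
  rw [zEl]
  refine list_prod_mem fun x hx => ?_
  obtain ⟨l, hl, rfl⟩ := List.mem_map.mp hx
  refine Subgroup.subset_closure ⟨l, ?_, rfl⟩
  have : (zWord.all fun l => decide (l ∈ hLetters)) = true := by decide +kernel
  exact of_decide_eq_true (List.all_eq_true.mp this l hl)

theorem zEl_central {h : X} (hh : h ∈ H) : zEl * h = h * zEl := by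
  have : H ≤ Subgroup.centralizer {zEl} := by
    rw [H, H45.Pres.sub, Subgroup.closure_le]
    rintro _ ⟨l, hl, rfl⟩
    exact Subgroup.mem_centralizer_singleton_iff.mpr (zEl_comm hA hinj hl).symm
  exact (Subgroup.mem_centralizer_singleton_iff.mp (this hh)).symm

theorem zEl_ne_one : zEl ≠ 1 := by
  intro h
  have h1 := zEl_apply hA (⟨1, by decide +kernel⟩ : Fin C31671.cert.n)
  rw [h, map_one, inv_one, Equiv.Perm.one_apply] at h1
  revert h1
  decide +kernel

omit hA hinj

/-- All that is needed below: a faithful action on the cosets. -/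
theorem setup : ∃ φ : X →* Equiv.Perm (Fin C31671.cert.n), Act C31671.cert_ok pres.e φ ∧
    Function.Injective φ ∧ (∀ h ∈ H, φ h ⟨0, n_pos⟩ = ⟨0, n_pos⟩) ∧
      ∃ F : X ⧸ H ≃ Fin C31671.cert.n, F (QuotientGroup.mk (1 : X)) = ⟨0, n_pos⟩ ∧
        (∀ g : X, ∀ x : X ⧸ H, F (g • x) = φ g (F x)) ∧
        ∀ q : X ⧸ H, q = QuotientGroup.mk (1 : X) ∨
          q ∈ MulAction.orbit H (QuotientGroup.mk (evalW pres.e C31671.wordG) : X ⧸ H) ∨
          q ∈ MulAction.orbit H (QuotientGroup.mk (evalW pres.e [7]) : X ⧸ H) := by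
  obtain ⟨-, -, φ, hA, hinj, hfix, F, hF0, hF⟩ := order_facts
  obtain ⟨q₁, q₂, hq₁, -, -, hq₂, hall⟩ := suborbits_points hA hfix F hF
  have hw : ∀ g : List ℕ, (∀ l ∈ g, l < 10) → ∀ (q : X ⧸ H),
      walkV TT g.reverse 0 = (F q : ℕ) → q = QuotientGroup.mk (evalW pres.e g) := by
    intro g hg q hval
    apply F.injective
    have h1 : F (evalW pres.e g • QuotientGroup.mk (1 : X)) = φ (evalW pres.e g) ⟨0, n_pos⟩ := by
      rw [hF, hF0]
    rw [show (QuotientGroup.mk (evalW pres.e g) : X ⧸ H) = evalW pres.e g • QuotientGroup.mk (1 : X) by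
      simp [MulAction.Quotient.smul_mk], h1]
    apply Fin.ext
    rw [← hval]
    have h2 := word_apply hA (g := g.reverse) (fun l hl => hg l (List.mem_reverse.mp hl)) ⟨0, n_pos⟩
    rw [evalW_reverse, map_inv, inv_inv] at h2
    exact h2.symm
  have e1 := hw C31671.wordG lt_wordG q₁ (by rw [hq₁]; decide +kernel)
  have e2 := hw [7] (by decide) q₂ (by rw [hq₂]; decide +kernel)
  have e0 : F.symm ⟨0, n_pos⟩ = QuotientGroup.mk (1 : X) := by rw [← hF0, Equiv.symm_apply_apply]
  exact ⟨φ, hA, hinj, hfix, F, hF0, hF, fun q => by rw [← e1, ← e2, ← e0]; exact hall q⟩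

theorem centralizer_zEl : Subgroup.centralizer {zEl} = H := by
  obtain ⟨φ, hA, hinj, -, F, -, -, hall⟩ := setup
  refine le_antisymm (fun g hg => ?_) fun h hh =>
    Subgroup.mem_centralizer_singleton_iff.mpr (zEl_central hA hinj hh).symm
  rw [Subgroup.mem_centralizer_singleton_iff] at hg
  have key : ∀ w : List ℕ, (∀ l ∈ w, l < 10) → ∀ i, i < 31671 →
      zc (walkV TT w i) ≠ walkV TT w (zc i) →
      (QuotientGroup.mk g : X ⧸ H) ∈ MulAction.orbit H (QuotientGroup.mk (evalW pres.e w) : X ⧸ H) →
      False := by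
    rintro w hwl i hi hne ⟨⟨h, hh⟩, hq⟩
    apply not_commute_word hA hwl hi hne
    have hq' : (QuotientGroup.mk (h * evalW pres.e w) : X ⧸ H) = QuotientGroup.mk g := hq
    have hk := QuotientGroup.eq.mp hq'
    set k := (h * evalW pres.e w)⁻¹ * g with hkdef
    have hgk : evalW pres.e w = h⁻¹ * g * k⁻¹ := by rw [hkdef]; group
    have c1 : Commute zEl g := hg.symm
    have c2 : Commute zEl h⁻¹ := zEl_central hA hinj (H.inv_mem hh)
    have c3 : Commute zEl k⁻¹ := zEl_central hA hinj (H.inv_mem hk)
    rw [hgk]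
    exact ((c2.mul_right c1).mul_right c3).symm.eq
  rcases hall (QuotientGroup.mk g) with h | h | h
  · have := QuotientGroup.eq.mp h.symm
    simpa using this
  · exact (key _ lt_wordG 1 (by norm_num) (by decide +kernel) h).elim
  · exact (key _ (by decide) 0 (by norm_num) (by decide +kernel) h).elim

theorem three_transposition (x y : X) :
    (x * zEl * x⁻¹ * (y * zEl * y⁻¹)) ^ 2 = 1 ∨ (x * zEl * x⁻¹ * (y * zEl * y⁻¹)) ^ 3 = 1 := by
  obtain ⟨φ, hA, hinj, -, F, -, -, hall⟩ := setup
  have key : ∀ g : X, (zEl * (g * zEl * g⁻¹)) ^ 2 = 1 ∨ (zEl * (g * zEl * g⁻¹)) ^ 3 = 1 := by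
    intro g
    have red : ∀ a : X, (QuotientGroup.mk g : X ⧸ H) ∈ MulAction.orbit H (QuotientGroup.mk a : X ⧸ H) →
        ∃ h : X, zEl * (g * zEl * g⁻¹) = h * (zEl * (a * zEl * a⁻¹)) * h⁻¹ := by
      rintro a ⟨⟨h, hh⟩, hq⟩
      have hq' : (QuotientGroup.mk (h * a) : X ⧸ H) = QuotientGroup.mk g := hq
      have hk := QuotientGroup.eq.mp hq'
      have c1 := zEl_central hA hinj hk
      have c2 := zEl_central hA hinj hh
      refine ⟨h, ?_⟩
      have e : g * zEl * g⁻¹ = h * a * zEl * (h * a)⁻¹ := by
        calc g * zEl * g⁻¹ = h * a * (((h * a)⁻¹ * g) * zEl) * g⁻¹ := by group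
          _ = h * a * (zEl * ((h * a)⁻¹ * g)) * g⁻¹ := by rw [c1]
          _ = h * a * zEl * (h * a)⁻¹ := by group
      calc zEl * (g * zEl * g⁻¹) = (zEl * h) * (a * zEl * a⁻¹ * h⁻¹) := by rw [e]; group
        _ = (h * zEl) * (a * zEl * a⁻¹ * h⁻¹) := by rw [c2]
        _ = h * (zEl * (a * zEl * a⁻¹)) * h⁻¹ := by group
    rcases hall (QuotientGroup.mk g) with h | h | h
    · have hg : g ∈ H := by simpa using QuotientGroup.eq.mp h.symm
      left
      rw [show g * zEl * g⁻¹ = zEl by rw [← zEl_central hA hinj hg, mul_inv_cancel_right],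
        zEl_sq hA hinj, one_pow]
    · obtain ⟨k, hk⟩ := red _ h
      left; rw [hk, conj_pow, conj_g_sq hA hinj]; simp
    · obtain ⟨k, hk⟩ := red _ h
      right; rw [hk, conj_pow, conj_j_cube hA hinj]; simp
  have e : x * zEl * x⁻¹ * (y * zEl * y⁻¹) =
      x * (zEl * (x⁻¹ * y * zEl * (x⁻¹ * y)⁻¹)) * x⁻¹ := by group
  rw [e, conj_pow, conj_pow]
  rcases key (x⁻¹ * y) with h | h
  · left; rw [h]; simp
  · right; rw [h]; simp

theorem prime23 : Nat.Prime 23 := by norm_num

theorem isSimple : IsSimpleGroup X := by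
  obtain ⟨hfin, hcard, -⟩ := order_facts
  obtain ⟨φ, hA, hinj, hfix, F, hF0, hF, hall⟩ := setup
  have : Nontrivial X := by
    rw [← Finite.one_lt_card_iff_nontrivial, hcard]; norm_num
  refine ⟨fun N hN => or_iff_not_imp_left.mpr fun hne => ?_⟩
  have htr : ∀ i, ∃ g, φ g ⟨0, n_pos⟩ = i := by
    intro i
    obtain ⟨g, hg⟩ := QuotientGroup.mk_surjective (F.symm i)
    refine ⟨g, ?_⟩
    have : F (g • QuotientGroup.mk (1 : X)) = i := by
      rw [show g • (QuotientGroup.mk (1 : X) : X ⧸ H) = QuotientGroup.mk g by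
        simp [MulAction.Quotient.smul_mk], hg, Equiv.apply_symm_apply]
    rwa [hF, hF0] at this
  obtain ⟨q₁, q₂, -, h1, h2, -, hall'⟩ := suborbits_points hA hfix F hF
  have hblock : ∀ B : Set (Fin C31671.cert.n), (⟨0, n_pos⟩ : Fin C31671.cert.n) ∈ B →
      (∀ h ∈ H, ∀ b ∈ B, φ h b ∈ B) → B.ncard ∣ C31671.cert.n →
      B.ncard = 1 ∨ B.ncard = C31671.cert.n := by
    intro B h0 hB hdvd
    have : Finite (X ⧸ H) := Finite.of_equiv _ F.symm
    set B' : Set (X ⧸ H) := F ⁻¹' B
    have hc : B'.ncard = B.ncard := by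
      rw [← Set.ncard_image_of_injective B' F.injective, Set.image_preimage_eq B F.surjective]
    have hinv : ∀ q ∈ B', MulAction.orbit H q ⊆ B' := by
      rintro q hq _ ⟨⟨h, hh⟩, rfl⟩
      change F (h • q) ∈ B
      rw [hF]; exact hB h hh _ hq
    have h0' : F.symm ⟨0, n_pos⟩ ∈ B' := by simpa [B'] using h0
    have hfix0 : ∀ q ∈ MulAction.orbit H q₁ ∪ MulAction.orbit H q₂, q ≠ F.symm ⟨0, n_pos⟩ := by
      rintro q hq rfl
      have hsing : MulAction.orbit H (F.symm ⟨0, n_pos⟩) = {F.symm ⟨0, n_pos⟩} := by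
        refine Set.eq_singleton_iff_unique_mem.mpr ⟨MulAction.mem_orbit_self _, ?_⟩
        rintro _ ⟨⟨h, hh⟩, rfl⟩
        apply F.injective
        change F (h • F.symm ⟨0, n_pos⟩) = _
        rw [hF, Equiv.apply_symm_apply, hfix h hh]
      rcases hq with hq | hq
      · rw [← MulAction.orbit_eq_iff.mpr hq, hsing, Set.ncard_singleton] at h1
        omega
      · rw [← MulAction.orbit_eq_iff.mpr hq, hsing, Set.ncard_singleton] at h2
        omega
    have d12 : Disjoint (MulAction.orbit H q₁) (MulAction.orbit H q₂) := by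
      rw [Set.disjoint_left]
      intro z hz1 hz2
      rw [← MulAction.orbit_eq_iff.mpr hz1, MulAction.orbit_eq_iff.mpr hz2] at h1
      omega
    have hd0 : ∀ O : Set (X ⧸ H), O ⊆ MulAction.orbit H q₁ ∪ MulAction.orbit H q₂ →
        Disjoint {F.symm ⟨0, n_pos⟩} O :=
      fun O hO => Set.disjoint_singleton_left.mpr fun hh => hfix0 _ (hO hh) rfl
    by_cases b1 : ∃ q ∈ MulAction.orbit H q₁, q ∈ B' <;>
      by_cases b2 : ∃ q ∈ MulAction.orbit H q₂, q ∈ B'
    · right
      have : B' = Set.univ := by
        refine Set.eq_univ_of_forall fun q => ?_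
        obtain ⟨z1, hz1, hz1'⟩ := b1
        obtain ⟨z2, hz2, hz2'⟩ := b2
        rcases hall' q with rfl | h | h
        · exact h0'
        · exact hinv z1 hz1' (by rwa [MulAction.orbit_eq_iff.mpr hz1])
        · exact hinv z2 hz2' (by rwa [MulAction.orbit_eq_iff.mpr hz2])
      rw [← hc, this, Set.ncard_univ, Nat.card_congr F, Nat.card_fin]
    · exfalso
      have : B' = {F.symm ⟨0, n_pos⟩} ∪ MulAction.orbit H q₁ := by
        apply Set.Subset.antisymm
        · intro q hq
          rcases hall' q with rfl | h | h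
          · exact Or.inl rfl
          · exact Or.inr h
          · exact absurd ⟨q, h, hq⟩ b2
        · obtain ⟨z1, hz1, hz1'⟩ := b1
          refine Set.union_subset (Set.singleton_subset_iff.mpr h0') ?_
          rw [← MulAction.orbit_eq_iff.mpr hz1]; exact hinv z1 hz1'
      rw [← hc, this, Set.ncard_union_eq (hd0 _ Set.subset_union_left), Set.ncard_singleton, h1,
        cert_n] at hdvd
      norm_num at hdvd
    · exfalso
      have : B' = {F.symm ⟨0, n_pos⟩} ∪ MulAction.orbit H q₂ := by
        apply Set.Subset.antisymm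
        · intro q hq
          rcases hall' q with rfl | h | h
          · exact Or.inl rfl
          · exact absurd ⟨q, h, hq⟩ b1
          · exact Or.inr h
        · obtain ⟨z2, hz2, hz2'⟩ := b2
          refine Set.union_subset (Set.singleton_subset_iff.mpr h0') ?_
          rw [← MulAction.orbit_eq_iff.mpr hz2]; exact hinv z2 hz2'
      rw [← hc, this, Set.ncard_union_eq (hd0 _ Set.subset_union_right), Set.ncard_singleton, h2,
        cert_n] at hdvd
      norm_num at hdvd
    · left
      have : B' = {F.symm ⟨0, n_pos⟩} := by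
        refine Set.eq_singleton_iff_unique_mem.mpr ⟨h0', fun q hq => ?_⟩
        rcases hall' q with rfl | h | h
        · rfl
        · exact absurd ⟨q, h, hq⟩ b1
        · exact absurd ⟨q, h, hq⟩ b2
      rw [← hc, this, Set.ncard_singleton]
  have hcop : Nat.Coprime 23 N.index :=
    H45.normal_index_coprime (k := 1) n_pos prime23 φ hinj htr H hfix hblock
      (by rw [cert_n]; norm_num) (by rw [hcard]; norm_num) N hne
  have hu : evalW pres.e C31671.wordY ^ 23 = 1 := by
    apply hinj
    rw [map_pow, hA.evalW _ lt_wordY, ← evalW_pow, map_one]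
    exact powOK_sound C31671.cert_ok lt_wordY fun i hi => (aux_facts hi).2.2.2.2.1
  have hau : (pres.e 0 * evalW pres.e C31671.wordY) ^ 23 = 1 := by
    apply hinj
    rw [← evalW_cons, map_pow, hA.evalW _ (List.forall_mem_cons.mpr ⟨by decide, lt_wordY⟩),
      ← evalW_pow, map_one]
    exact powOK_sound C31671.cert_ok (List.forall_mem_cons.mpr ⟨by decide +kernel, lt_wordY⟩)
      fun i hi => (aux_facts hi).2.2.2.2.2.1
  have ha : pres.e 0 ∈ N := by
    have := N.mul_mem (H45.pow_elem_mem hcop hau) (N.inv_mem (H45.pow_elem_mem hcop hu))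
    simpa using this
  have hedge : ∀ i j, ((List.replicate 3 [i, j]).flatten ∈ pres.R ∨
      (List.replicate 3 [j, i]).flatten ∈ pres.R) → pres.e i ∈ N → pres.e j ∈ N := by
    intro i j hw hi
    refine H45.mem_of_odd_edge (m := 3) (by decide) ?_ (pres_sq j) hi
    rcases hw with hw | hw
    · rw [← H45.evalW_replicate]; exact pres_ok.rel _ hw
    · apply H45.pow_swap_eq_one
      rw [← H45.evalW_replicate]; exact pres_ok.rel _ hw
  have hb := hedge 0 1 (by decide +kernel) ha
  have hc := hedge 1 2 (by decide +kernel) hb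
  have hd := hedge 2 3 (by decide +kernel) hc
  have he := hedge 3 4 (by decide +kernel) hd
  have hf := hedge 4 5 (by decide +kernel) he
  have hg := hedge 5 6 (by decide +kernel) hf
  have hj := hedge 6 7 (by decide +kernel) hg
  have hh := hedge 3 8 (by decide +kernel) hd
  have hi := hedge 8 9 (by decide +kernel) hh
  rw [eq_top_iff, ← gen_top, Subgroup.closure_le]
  rintro _ ⟨l, hl, rfl⟩
  rw [cert_L] at hl
  interval_cases l <;> assumption

/-- a homomorphism from the subgroup into a group of exponent two is trivial -/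
theorem hom_trivial {K : Type*} [Group K] (χ : H →* K) (hK : ∀ k : K, k * k = 1) : χ = 1 := by
  let x : hLetters.toFinset → K := fun l =>
    χ ⟨pres.e l.1, Subgroup.subset_closure ⟨l.1, List.mem_toFinset.mp l.2, rfl⟩⟩
  let f : ℕ → H := fun l =>
    if hl : l ∈ hLetters then ⟨pres.e l, Subgroup.subset_closure ⟨l, hl, rfl⟩⟩ else 1
  have hf : ∀ l ∈ hLetters, (f l : X) = pres.e l := fun l hl => by simp [f, hl]
  have hev : ∀ w : List ℕ, (∀ l ∈ w, l ∈ hLetters) → ((evalW f w : H) : X) = evalW pres.e w := by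
    intro w
    induction w with
    | nil => intro _; rfl
    | cons a w ih =>
      intro hw
      rw [evalW_cons, evalW_cons, Subgroup.coe_mul, hf a (hw a (by simp)),
        ih fun l hl => hw l (by simp [hl])]
  have hsame : ∀ a b, a ∈ hLetters → b ∈ hLetters →
      ((List.replicate 3 [a, b]).flatten ∈ pres.R) → χ (f a) = χ (f b) := by
    intro a b ha hb hr
    have h1 : evalW f (List.replicate 3 [a, b]).flatten = 1 := by
      apply Subtype.ext
      rw [hev _ (fun l hl => ?_)]
      · exact pres_ok.rel _ hr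
      · obtain ⟨v, hv, hlv⟩ := List.mem_flatten.mp hl
        rw [List.eq_of_mem_replicate hv] at hlv
        simp at hlv
        rcases hlv with rfl | rfl
        · exact ha
        · exact hb
    have h2 := congrArg χ h1
    rw [evalW_pow, map_pow, map_one, pow_succ, pow_two, hK, one_mul] at h2
    simp only [evalW, List.map_cons, List.map_nil, List.prod_cons, List.prod_nil, mul_one, map_mul] at h2
    rw [eq_inv_of_mul_eq_one_left h2]
    exact inv_eq_of_mul_eq_one_right (hK _)
  have e01 := hsame 0 1 (by decide) (by decide) (by decide +kernel)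
  have e12 := hsame 1 2 (by decide) (by decide) (by decide +kernel)
  have e23 := hsame 2 3 (by decide) (by decide) (by decide +kernel)
  have e34 := hsame 3 4 (by decide) (by decide) (by decide +kernel)
  have e45 := hsame 4 5 (by decide) (by decide) (by decide +kernel)
  have e56 := hsame 5 6 (by decide) (by decide) (by decide +kernel)
  have e38 := hsame 3 8 (by decide) (by decide) (by decide +kernel)
  have e89 := hsame 8 9 (by decide) (by decide) (by decide +kernel)
  have hall : ∀ l ∈ hLetters, χ (f l) = χ (f 0) := by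
    intro l hl
    fin_cases hl <;> simp_all
  have h0 : χ (f 0) = 1 := by
    have h1 : evalW f (List.replicate 9 C31671.wordB).flatten = 1 := by
      apply Subtype.ext
      rw [hev _ (fun l hl => ?_)]
      · exact pres_ok.rel _ (by decide +kernel)
      · have : ((List.replicate 9 C31671.wordB).flatten.all fun l => decide (l ∈ hLetters)) = true := by
          decide +kernel
        exact of_decide_eq_true (List.all_eq_true.mp this l hl)
    have h2 := congrArg χ h1
    rw [evalW_pow, map_pow, map_one] at h2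
    have h3 : χ (evalW f C31671.wordB) = χ (f 0) := by
      rw [evalW, map_list_prod, List.map_map,
        List.map_congr_left (f := ⇑χ ∘ f) (g := fun _ => χ (f 0)) (fun l hl => hall l ?_), List.map_const',
        List.prod_replicate]
      · rw [show C31671.wordB.length = 7 from rfl,
          show (7 : ℕ) = 2 * 3 + 1 from rfl, pow_succ, pow_mul, pow_two, hK, one_pow, one_mul]
      · have : (C31671.wordB.all fun l => decide (l ∈ hLetters)) = true := by decide +kernel
        exact of_decide_eq_true (List.all_eq_true.mp this l hl)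
    rw [h3, show (9 : ℕ) = 2 * 4 + 1 from rfl, pow_succ, pow_mul, pow_two, hK, one_pow, one_mul] at h2
    exact h2
  ext ⟨g, hg⟩
  rw [MonoidHom.one_apply]
  induction hg using Subgroup.closure_induction with
  | mem g hg =>
    obtain ⟨l, hl, rfl⟩ := hg
    have : f l = ⟨pres.e l, Subgroup.subset_closure ⟨l, hl, rfl⟩⟩ := Subtype.ext (hf l hl)
    rw [← this, hall l hl, h0]
  | one => exact map_one χ
  | mul a b ha hb iha ihb =>
    change χ (⟨a, ha⟩ * ⟨b, hb⟩) = 1
    rw [map_mul, iha, ihb, one_mul]
  | inv a ha iha =>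
    change χ (⟨a, ha⟩⁻¹) = 1
    rw [map_inv, iha, inv_one]

/-- letters of `Fi22` as letters of `Fi23` -/
def embLetters : List ℕ := [0, 1, 2, 3, 4, 5, 6, 8, 9]

theorem H_card : Nat.card H = 129123503308800 := by
  obtain ⟨hfin, hcard, -⟩ := order_facts
  have h := H.card_mul_index
  rw [hcard, H_index] at h
  exact Nat.eq_of_mul_eq_mul_right (by norm_num) (h.trans (by norm_num))

theorem zEl_def : evalW pres.e zWord = zEl := rfl

attribute [local irreducible] zEl in
theorem cover : IsNonsplitDoubleCover H Cfsg.Spor.Fi22 := by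
  obtain ⟨φ, hA, hinj, -⟩ := setup
  have := order_facts.1
  let zH : H := ⟨zEl, zEl_mem hA hinj⟩
  let Z : Subgroup H := Subgroup.zpowers zH
  have hzc : zH ∈ Subgroup.center H :=
    Subgroup.mem_center_iff.mpr fun g => Subtype.ext (zEl_central hA hinj g.2).symm
  have hZle : Z ≤ Subgroup.center H := Subgroup.zpowers_le.mpr hzc
  have : Z.Normal := ⟨fun x hx g => by
    rw [Subgroup.mem_center_iff.mp (hZle hx) g, mul_inv_cancel_right]; exact hx⟩
  have hZcard : Nat.card Z = 2 := by
    rw [Nat.card_zpowers, orderOf_eq_prime_iff]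
    refine ⟨?_, fun h => zEl_ne_one hA hinj (congrArg Subtype.val h)⟩
    rw [pow_two]; exact Subtype.ext (zEl_sq hA hinj)
  let f : ℕ → H := fun l =>
    if hl : l ∈ hLetters then ⟨pres.e l, Subgroup.subset_closure ⟨l, hl, rfl⟩⟩ else 1
  have hev : ∀ w : List ℕ, (∀ l ∈ w, l ∈ hLetters) → ((evalW f w : H) : X) = evalW pres.e w := by
    intro w
    induction w with
    | nil => intro _; rfl
    | cons a w ih =>
      intro hw
      rw [evalW_cons, evalW_cons, Subgroup.coe_mul, ih fun l hl => hw l (by simp [hl])]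
      simp [f, hw a (by simp)]
  let π : H →* H ⧸ Z := QuotientGroup.mk' Z
  let P22 := H45.Fi22Pres.pres
  let g : Cfsg.Spor.Fi22.Gen → H ⧸ Z := fun x => π (f (embLetters.getD (H45.ixOf P22.gl x) 10))
  have hg : ∀ l, l < 9 → H45.eOf P22.gl g l = π (f (embLetters.getD l 10)) := by
    intro l hl
    have hix : ∀ l : Fin 9, H45.ixOf P22.gl (P22.gl[(l : ℕ)]'l.isLt) = l := by decide +kernel
    simp only [H45.eOf, List.getElem?_eq_getElem (show l < P22.gl.length from hl), Option.elim_some, g]
    exact congrArg (fun n => π (f (embLetters.getD n 10))) (hix ⟨l, hl⟩)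
  have heval : ∀ w ∈ P22.R, evalW (H45.eOf P22.gl g) w = 1 := by
    intro w hw
    have h9 : (P22.R.all fun w => w.all fun l => Nat.blt l 9) = true := by decide +kernel
    have hlt : ∀ l ∈ w, l < 9 := fun l hl => by
      simpa using List.all_eq_true.mp (List.all_eq_true.mp h9 w hw) l hl
    have e1 : evalW (H45.eOf P22.gl g) w = π (evalW f (w.map fun l => embLetters.getD l 10)) := by
      rw [evalW, evalW, map_list_prod, List.map_map, List.map_map]
      exact congrArg List.prod (List.map_congr_left fun l hl => hg l (hlt l hl))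
    rw [e1]
    have hsub : ((w.map fun l => embLetters.getD l 10).all fun l => decide (l ∈ hLetters)) = true := by
      rw [List.all_eq_true]
      intro l hl
      obtain ⟨x, hx, rfl⟩ := List.mem_map.mp hl
      have : ∀ x : Fin 9, embLetters.getD x 10 ∈ hLetters := by decide
      simpa using this ⟨x, hlt x hx⟩
    have hcases : (P22.R.all fun w => decide ((w.map fun l => embLetters.getD l 10) ∈ pres.R ++ [zWord])) =
        true := by decide +kernel
    rcases List.mem_append.mp (of_decide_eq_true (List.all_eq_true.mp hcases w hw)) with h | h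
    · have : evalW f (w.map fun l => embLetters.getD l 10) = 1 :=
        Subtype.ext (by
          rw [hev _ fun l hl => of_decide_eq_true (List.all_eq_true.mp hsub l hl)]
          exact pres_ok.rel _ h)
      rw [this, map_one]
    · rw [QuotientGroup.mk'_apply, QuotientGroup.eq_one_iff]
      have h' : evalW f (w.map fun l => embLetters.getD l 10) = zH := by
        apply Subtype.ext
        rw [hev _ fun l hl => of_decide_eq_true (List.all_eq_true.mp hsub l hl),
          List.mem_singleton.mp h, zEl_def]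
      rw [h']; exact Subgroup.mem_zpowers _
  have hsq : ∀ x, g x * g x = 1 := by
    intro x
    rw [← map_mul]
    have : f (embLetters.getD (H45.ixOf P22.gl x) 10) * f (embLetters.getD (H45.ixOf P22.gl x) 10) = 1 := by
      apply Subtype.ext
      simp only [f]
      split
      · exact pres_sq _
      · simp
    rw [this, map_one]
  have hcox : H45.CoxHolds P22.edges g :=
    H45.coxHolds_of_words H45.Fi22Pres.ok.all H45.Fi22Pres.ok.check
      fun w hw => heval w (List.mem_append_left _ hw)
  let ψ : Cfsg.Spor.Fi22 →* H ⧸ Z := PresentedGroup.toGroup (f := g) (by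
    rintro r (⟨x, hx, y, hy, rfl⟩ | hr)
    · rw [map_pow, map_mul, FreeGroup.lift_apply_of, FreeGroup.lift_apply_of]
      exact hcox x hx y hy
    · have h1 := H45.Fi22Pres.ok.extra_eval _ g (fun x => inv_eq_of_mul_eq_one_right (hsq x))
      have h2 : FreeGroup.lift g r ∈ P22.Rx.map (evalW (H45.eOf P22.gl g)) := by
        rw [← h1]; exact List.mem_map.mpr ⟨r, hr, rfl⟩
      obtain ⟨w, hw, hwr⟩ := List.mem_map.mp h2
      rw [← hwr]
      exact heval w (List.mem_append_right _ hw))
  have hsurj : Function.Surjective ψ := by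
    rw [← MonoidHom.range_eq_top, eq_top_iff]
    rintro q -
    obtain ⟨⟨x, hx⟩, rfl⟩ := QuotientGroup.mk_surjective q
    induction hx using Subgroup.closure_induction with
    | mem x hx =>
      obtain ⟨l, hl, rfl⟩ := hx
      have : ∀ l ∈ hLetters, ∃ k : Fin 9, embLetters.getD k 10 = l := by decide
      obtain ⟨k, hk⟩ := this l hl
      refine ⟨PresentedGroup.of (P22.gl[(k : ℕ)]'k.isLt), ?_⟩
      rw [PresentedGroup.toGroup.of]
      have h1 := hg k k.isLt
      simp only [H45.eOf, List.getElem?_eq_getElem (show (k : ℕ) < P22.gl.length from k.isLt),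
        Option.elim_some] at h1
      refine h1.trans ?_
      rw [hk]
      congr 1
      exact congrArg π (dif_pos hl)
    | one => exact ψ.range.one_mem
    | mul a b ha hb iha ihb => exact ψ.range.mul_mem iha ihb
    | inv a ha iha => exact ψ.range.inv_mem iha
  have h22 := H45.Fi22Top.order_facts
  have hqcard : Nat.card (H ⧸ Z) = 64561751654400 := by
    have h := Z.card_mul_index
    rw [hZcard, H_card] at h
    exact Nat.eq_of_mul_eq_mul_left (by norm_num : 0 < 2) (h.trans (by norm_num))
  have : Finite Cfsg.Spor.Fi22 := h22.1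
  have hbij : Function.Bijective ψ :=
    (Nat.bijective_iff_surjective_and_card _).mpr ⟨hsurj, by rw [hqcard]; exact h22.2.1⟩
  let iso : Cfsg.Spor.Fi22 ≃* H ⧸ Z := MulEquiv.ofBijective ψ hbij
  have hsimple : IsSimpleGroup (H ⧸ Z) := by
    have : IsSimpleGroup Cfsg.Spor.Fi22 := H45.Fi22Top.isSimple
    have : Nontrivial (H ⧸ Z) := iso.toEquiv.symm.nontrivial
    exact IsSimpleGroup.isSimpleGroup_of_surjective iso.toMonoidHom iso.surjective
  have hcen : Subgroup.center H = Z := by
    refine le_antisymm ?_ hZle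
    have hN : ((Subgroup.center H).map π).Normal :=
      Subgroup.Normal.map inferInstance π (QuotientGroup.mk'_surjective Z)
    rcases hsimple.eq_bot_or_eq_top_of_normal _ hN with h | h
    · rw [Subgroup.map_eq_bot_iff, QuotientGroup.ker_mk'] at h
      exact h
    · exfalso
      have hcomm : ∀ a b : H ⧸ Z, a * b = b * a := by
        intro a b
        obtain ⟨x, hx, rfl⟩ : a ∈ (Subgroup.center H).map π := by rw [h]; trivial
        obtain ⟨y, rfl⟩ := QuotientGroup.mk'_surjective Z b
        rw [← map_mul, ← map_mul, (Subgroup.mem_center_iff.mp hx y).symm]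
      letI : CommGroup (H ⧸ Z) := { (inferInstance : Group (H ⧸ Z)) with mul_comm := hcomm }
      have hp := IsSimpleGroup.prime_card (α := H ⧸ Z)
      rw [hqcard] at hp
      norm_num at hp
  refine ⟨by rw [hcen]; exact hZcard,
    ⟨(QuotientGroup.quotientMulEquivOfEq hcen).trans iso.symm⟩, fun L hL => ?_⟩
  have hidx : L.index = 2 := by
    rw [hL.index_eq_card, hcen]; exact hZcard
  have := Subgroup.normal_of_index_eq_two hidx
  have h2 : ∀ k : H ⧸ L, k * k = 1 := by
    intro k
    have := pow_card_eq_one' (x := k)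
    rwa [← Subgroup.index_eq_card, hidx, pow_two] at this
  have h1 := hom_trivial (QuotientGroup.mk' L) h2
  have htop : L = ⊤ := by
    rw [eq_top_iff]
    intro x _
    have := congrArg (fun χ : H →* H ⧸ L => χ x) h1
    exact (QuotientGroup.eq_one_iff x).mp this
  rw [htop, Subgroup.index_top] at hidx
  norm_num at hidx

end Cfsg.Agent.H25.Fi23
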