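import Cfsg.Agent.H25.Fi23.Action

/-!
Checking relators in a table, and derivations of relators by rewriting.
-/

set_option autoImplicit false

namespace Cfsg.Agent.H25.Fi23

open Cfsg.Agent.H45 (force force_eq evalW evalW_cons evalW_nil evalW_append revOnto)

variable {C : Cert}

/-- the rows of the neighbours of a coset -/
noncomputable def nbRows (t : Tr) (ri : ℕ) (xs : List ℕ) : (List ℕ → Bool) → Bool :=
  List.rec (fun k => k [])
    (fun x _ ih k => force (rtgt ri x) fun j => force (rowC t j) fun rj => ih fun l => k (rj :: l)) xs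

/-- entry of a list, by recursion -/
noncomputable def nth (l : List ℕ) : ℕ → ℕ :=
  List.rec (fun _ => 0) (fun a _ ih i => Nat.rec a (fun i' _ => ih i') i) l

/-- all pairs of a list pass a test -/
noncomputable def allPairs (f : ℕ → ℕ → Bool) (ps : List (ℕ × ℕ)) : Bool :=
  List.rec true (fun xy _ ih => andB (force (Prod.rec (fun x _ => x) xy) fun x =>
    force (Prod.rec (fun _ y => y) xy) fun y => f x y) ih) ps

/-- the relators of length four and six at one coset -/
noncomputable def coxOK (t : Tr) (L : ℕ) (comm braid : List (ℕ × ℕ)) (i : ℕ) : Bool :=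
  force (rowC t i) fun ri => nbRows t ri (List.range L) fun nb =>
    andB (allPairs (fun x y => Nat.beq (rtgt (nth nb x) y) (rtgt (nth nb y) x)) comm)
      (allPairs (fun x y => force (rtgt (nth nb x) y) fun p => force (rtgt (nth nb y) x) fun q =>
        Nat.beq (tgt t p x) (tgt t q y)) braid)

theorem nth_eq : ∀ (l : List ℕ) (i : ℕ), nth l i = l.getD i 0 := by
  intro l
  induction l with
  | nil => intro i; simp [nth]
  | cons a l ih =>
    intro i
    cases i with
    | zero => rfl
    | succ i => rw [show nth (a :: l) (i + 1) = nth l i from rfl, ih]; simp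

theorem allPairs_eq (f : ℕ → ℕ → Bool) :
    ∀ ps : List (ℕ × ℕ), allPairs f ps = ps.all fun xy => f xy.1 xy.2 := by
  intro ps
  induction ps with
  | nil => rfl
  | cons xy ps ih =>
    rw [show allPairs f (xy :: ps) = andB (force (Prod.rec (fun x _ => x) xy) fun x =>
      force (Prod.rec (fun _ y => y) xy) fun y => f x y) (allPairs f ps) from rfl, andB_eq, force_eq,
      force_eq, ih, List.all_cons]

theorem nbRows_eq (t : Tr) (ri : ℕ) : ∀ (xs : List ℕ) (k : List ℕ → Bool),
    nbRows t ri xs k = k (xs.map fun x => rowC t (rtgt ri x)) := by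
  intro xs
  induction xs with
  | nil => intro k; rfl
  | cons x xs ih =>
    intro k
    rw [show nbRows t ri (x :: xs) k = force (rtgt ri x) fun j => force (rowC t j) fun rj =>
      nbRows t ri xs fun l => k (rj :: l) from rfl]
    simp only [force_eq, ih, List.map_cons]

theorem coxOK_sound {t : Tr} {L : ℕ} {comm braid : List (ℕ × ℕ)} {i : ℕ}
    (hlet : ((comm ++ braid).all fun xy => Nat.blt xy.1 L && Nat.blt xy.2 L) = true)
    (h : coxOK t L comm braid i = true) :
    (∀ xy ∈ comm, walkV t [xy.1, xy.2] i = walkV t [xy.2, xy.1] i) ∧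
    (∀ xy ∈ braid, walkV t [xy.1, xy.2, xy.1] i = walkV t [xy.2, xy.1, xy.2] i) := by
  have hget : ∀ x, x < L →
      ((List.range L).map fun x => rowC t (rtgt (rowC t i) x)).getD x 0 = rowC t (tgt t i x) := by
    intro x hx
    simp [List.getD_eq_getElem?_getD, hx, tgt]
  simp only [List.all_eq_true, Bool.and_eq_true, Nat.blt_eq] at hlet
  simp only [coxOK, andB_eq, force_eq, nbRows_eq, allPairs_eq, nth_eq, Bool.and_eq_true,
    List.all_eq_true, Nat.beq_eq] at h
  constructor
  · intro xy hxy
    have := h.1 xy hxy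
    obtain ⟨h1, h2⟩ := hlet xy (List.mem_append_left _ hxy)
    rw [hget _ h1, hget _ h2] at this
    simpa [walkV, tgt] using this
  · intro xy hxy
    have := h.2 xy hxy
    obtain ⟨h1, h2⟩ := hlet xy (List.mem_append_right _ hxy)
    rw [hget _ h1, hget _ h2] at this
    simpa [walkV, tgt] using this

/-- entry of an auxiliary column: 16 entries of 16 bits in a leaf -/
noncomputable def uget (u : Tr) (i : ℕ) : ℕ :=
  force i fun i' => force (Nat.shiftRight i' 4) fun a =>
    Nat.land (Nat.shiftRight (u.get a) (Nat.mul (Nat.land i' 15) 16)) 65535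

/-- iterate an auxiliary column -/
noncomputable def uiter (u : Tr) (m : ℕ) : ℕ → (ℕ → Bool) → Bool :=
  Nat.rec (fun p k => k p) (fun _ ih p k => force (uget u p) fun q => ih q k) m

/-- a power of a word fixes a coset, through an auxiliary column for the word -/
noncomputable def powOK (t u : Tr) (w : List ℕ) (k i : ℕ) : Bool :=
  andB (walk t w i fun q => Nat.beq (uget u i) q) (uiter u k i fun q => Nat.beq q i)

theorem uiter_eq (u : Tr) : ∀ (m p : ℕ) (k : ℕ → Bool), uiter u m p k = k ((uget u)^[m] p) := by
  intro m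
  induction m with
  | zero => intro p k; rfl
  | succ m ih =>
    intro p k
    rw [show uiter u (m + 1) p k = force (uget u p) fun q => uiter u m q k from rfl]
    simp only [force_eq, ih, Function.iterate_succ_apply]

theorem powOK_sound (hC : C.OK) {u : Tr} {w : List ℕ} {k : ℕ} (hw : ∀ l ∈ w, l < C.L)
    (h : ∀ i, i < C.n → powOK C.t u w k i = true) :
    evalW (sg hC) (List.replicate k w).flatten = 1 := by
  simp only [powOK, andB_eq, walk_eq, uiter_eq, Bool.and_eq_true, Nat.beq_eq] at h
  have hit : ∀ m p, p < C.n → walkV C.t (List.replicate m w).flatten p = (uget u)^[m] p := by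
    intro m
    induction m with
    | zero => intro p _; rfl
    | succ m ih =>
      intro p hp
      rw [List.replicate_succ, List.flatten_cons, walkV_append, ih _ (walkV_lt hC w hw p hp),
        Function.iterate_succ_apply, (h p hp).1]
  refine evalW_sg_eq_one hC ?_ fun i hi => by rw [hit k i hi, (h i hi).2]
  intro l hl
  obtain ⟨v, hv, hlv⟩ := List.mem_flatten.mp hl
  rw [List.eq_of_mem_replicate hv] at hlv
  exact hw l hlv

theorem comm_rel (hC : C.OK) {x y : ℕ} (hx : x < C.L) (hy : y < C.L)
    (h : ∀ i, i < C.n → walkV C.t [x, y] i = walkV C.t [y, x] i) :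
    evalW (sg hC) [x, y, x, y] = 1 := by
  refine evalW_sg_eq_one hC (by simp [hx, hy]) fun i hi => ?_
  have h1 := h i hi
  simp only [walkV] at h1 ⊢
  rw [h1]
  have hi2 := (hC.edge hi hy).1
  rw [(hC.edge hi2 hx).2.1]
  exact (hC.edge hi hy).2.1

theorem braid_rel (hC : C.OK) {x y : ℕ} (hx : x < C.L) (hy : y < C.L)
    (h : ∀ i, i < C.n → walkV C.t [x, y, x] i = walkV C.t [y, x, y] i) :
    evalW (sg hC) [x, y, x, y, x, y] = 1 := by
  refine evalW_sg_eq_one hC (by simp [hx, hy]) fun i hi => ?_
  have h1 := h i hi
  simp only [walkV] at h1 ⊢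
  rw [h1]
  have a1 := (hC.edge hi hy).1
  have a2 := (hC.edge a1 hx).1
  rw [(hC.edge a2 hy).2.1, (hC.edge a1 hx).2.1]
  exact (hC.edge hi hy).2.1

theorem square_rel (hC : C.OK) {x : ℕ} : evalW (sg hC) [x, x] = 1 := by
  simp [evalW, sg_sq]

/-- drop a given prefix -/
def stripPre : List ℕ → List ℕ → (List ℕ → Bool) → Bool
  | [], w, k => k w
  | _ :: _, [], _ => false
  | a :: as, b :: bs, k => Nat.beq a b && stripPre as bs k

/-- replace `l` by `h` at a position -/
def rwAt (l h : List ℕ) : ℕ → List ℕ → List ℕ → (List ℕ → Bool) → Bool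
  | 0, acc, w, k => stripPre l w fun w' => k (revOnto acc (revOnto h.reverse w'))
  | _ + 1, _, [], _ => false
  | p + 1, acc, x :: w, k => rwAt l h p (x :: acc) w k

/-- apply a list of rewriting steps, each packed as position and rule number -/
noncomputable def rwAll (rules : List (List ℕ × List ℕ)) : List ℕ → List ℕ → (List ℕ → Bool) → Bool
  | [], w, k => k w
  | v :: vs, w, k =>
    force (v >>> 8) fun p => force (v &&& 255) fun r =>
      rwAt (rules.getD r ([], [])).1 (rules.getD r ([], [])).2 p [] w fun w' => rwAll rules vs w' k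

theorem revOnto_eq : ∀ xs acc : List ℕ, revOnto xs acc = xs.reverse ++ acc := by
  intro xs
  induction xs with
  | nil => intro acc; simp [revOnto]
  | cons x xs ih => intro acc; simp [revOnto, ih]

theorem stripPre_sound : ∀ {l w : List ℕ} {k : List ℕ → Bool}, stripPre l w k = true →
    ∃ w', w = l ++ w' ∧ k w' = true := by
  intro l
  induction l with
  | nil => intro w k h; exact ⟨w, rfl, h⟩
  | cons a as ih =>
    intro w k h
    cases w with
    | nil => simp [stripPre] at h
    | cons b bs =>
      simp only [stripPre, Bool.and_eq_true, Nat.beq_eq] at h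
      obtain ⟨w', rfl, hk⟩ := ih h.2
      exact ⟨w', by rw [h.1]; rfl, hk⟩

theorem rwAt_sound {G : Type*} [Group G] {e : ℕ → G} {l h : List ℕ}
    (heq : evalW e l = evalW e h) : ∀ {p : ℕ} {acc w : List ℕ} {k : List ℕ → Bool},
      rwAt l h p acc w k = true →
      ∃ w', k w' = true ∧ evalW e w' = evalW e (acc.reverse ++ w) := by
  intro p
  induction p with
  | zero =>
    intro acc w k hk
    obtain ⟨w', rfl, hk'⟩ := stripPre_sound hk
    refine ⟨_, hk', ?_⟩
    simp [revOnto_eq, evalW_append, heq]
  | succ p ih =>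
    intro acc w k hk
    cases w with
    | nil => simp [rwAt] at hk
    | cons x w =>
      obtain ⟨w', hk', he⟩ := ih hk
      exact ⟨w', hk', by simpa using he⟩

theorem rwAll_sound {G : Type*} [Group G] {e : ℕ → G} {rules : List (List ℕ × List ℕ)}
    (hr : ∀ r ∈ rules, evalW e r.1 = evalW e r.2) : ∀ {vs w : List ℕ} {k : List ℕ → Bool},
      rwAll rules vs w k = true → ∃ w', k w' = true ∧ evalW e w' = evalW e w := by
  intro vs
  induction vs with
  | nil => intro w k h; exact ⟨w, h, rfl⟩
  | cons v vs ih =>
    intro w k h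
    simp only [rwAll, force_eq] at h
    have heq : evalW e (rules.getD (v &&& 255) ([], [])).1 = evalW e (rules.getD (v &&& 255) ([], [])).2 := by
      rw [List.getD_eq_getElem?_getD]
      cases hx : rules[v &&& 255]? with
      | none => simp
      | some r => simpa using hr r (List.mem_of_getElem? hx)
    obtain ⟨w', hk, he⟩ := rwAt_sound heq h
    obtain ⟨w'', hk', he'⟩ := ih hk
    exact ⟨w'', hk', by rw [he', he]; simp⟩

end Cfsg.Agent.H25.Fi23
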