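import Cfsg.Agent.H45.CosetPres

/-!
Coset-table certificates for large tables on involutory generators.

A table is a trie of packed rows; each edge carries a stamp, and each edge is checked on its own:
it is a tree edge, a subgroup generator at coset zero, or the one edge of a relator cycle all whose
other edges have smaller stamps.
-/

set_option autoImplicit false

namespace Cfsg.Agent.H25.Fi23

open Cfsg.Agent.H45 (force force_eq evalW evalW_cons evalW_nil evalW_append)

/-- a trie of packed leaves -/
inductive Tr where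
  | leaf (c : ℕ)
  | node (m : ℕ) (a b : Tr)

/-- conjunction, as a recursor -/
noncomputable def andB (a b : Bool) : Bool := Bool.rec false b a

theorem andB_eq (a b : Bool) : andB a b = (a && b) := by cases a <;> rfl

/-- conditional, as a recursor -/
noncomputable def ifB {α : Type} (c : Bool) (a b : α) : α := Bool.rec b a c

theorem ifB_eq {α : Type} (c : Bool) (a b : α) : ifB c a b = cond c a b := by cases c <;> rfl

/-- the leaf of an index (the index must be evaluated) -/
noncomputable def Tr.get (t : Tr) : ℕ → ℕ :=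
  Tr.rec (fun c _ => c) (fun m _ _ iha ihb i => Bool.rec (ihb i) (iha i) (Nat.blt i m)) t

/-- the row of a coset: 16 rows of 448 bits in a leaf -/
noncomputable def rowC (t : Tr) (i : ℕ) : ℕ :=
  force i fun i' => force (Nat.shiftRight i' 4) fun a =>
    Nat.shiftRight (t.get a) (Nat.mul (Nat.land i' 15) 448)

/-- target in a row -/
def rtgt (r l : ℕ) : ℕ := Nat.land (Nat.shiftRight r (Nat.mul l 40)) 65535

/-- stamp in a row -/
def rstamp (r l : ℕ) : ℕ := Nat.land (Nat.shiftRight r (Nat.add (Nat.mul l 40) 16)) 16777215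

/-- parent edge in a row -/
def rpar (r : ℕ) : ℕ := Nat.land (Nat.shiftRight r 400) 1099511627775

/-- target of an edge -/
noncomputable def tgt (t : Tr) (i l : ℕ) : ℕ := rtgt (rowC t i) l

/-- stamp of an edge -/
noncomputable def stamp (t : Tr) (i l : ℕ) : ℕ := rstamp (rowC t i) l

/-- the path of a word, with forcing -/
noncomputable def walk (t : Tr) (w : List ℕ) : ℕ → (ℕ → Bool) → Bool :=
  List.rec (fun p k => k p)
    (fun m _ ih p k => force (rowC t p) fun r => force (rtgt r m) fun q => ih q k) w

/-- the end of a path -/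
noncomputable def walkV (t : Tr) : List ℕ → ℕ → ℕ
  | [], p => p
  | m :: w, p => walkV t w (tgt t p m)

theorem walk_eq (t : Tr) : ∀ (w : List ℕ) (p : ℕ) (k : ℕ → Bool),
    walk t w p k = k (walkV t w p) := by
  intro w
  induction w with
  | nil => intro p k; rfl
  | cons m w ih =>
    intro p k
    have h : walk t (m :: w) p k = force (rowC t p) fun r => force (rtgt r m) fun q => walk t w q k := rfl
    rw [h, force_eq, force_eq, ih]; rfl

/-- fixed data of a certificate -/
structure Cert where
  L : ℕ
  n : ℕ
  t : Tr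
  R : List (List ℕ)
  S : List ℕ

/-- the rest of a cycle: edges with stamp below `s` -/
noncomputable def cycRest (t : Tr) (L s : ℕ) (w : List ℕ) : ℕ → (ℕ → Bool) → Bool :=
  List.rec (fun p k => k p)
    (fun m _ ih p k => force (rowC t p) fun r =>
      andB (Nat.blt m L) (andB (Nat.blt (rstamp r m) s) (force (rtgt r m) fun q => ih q k))) w

theorem cycRest_cons (t : Tr) (L s m : ℕ) (w : List ℕ) (p : ℕ) (k : ℕ → Bool) :
    cycRest t L s (m :: w) p k = force (rowC t p) fun r =>
      andB (Nat.blt m L) (andB (Nat.blt (rstamp r m) s)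
        (force (rtgt r m) fun q => cycRest t L s w q k)) := rfl

/-- walk a relator cycle: at position zero the edge `(i, l)` (or its reverse), elsewhere edges
with stamp below `s` -/
noncomputable def cyc (t : Tr) (L s i j l : ℕ) (w : List ℕ) : ℕ → ℕ → (ℕ → Bool) → Bool :=
  List.rec (fun _ p k => k p)
    (fun m w ih pos p k => force (rowC t p) fun r =>
      andB (Nat.blt m L) (ifB (Nat.beq pos 0)
        (andB (Nat.beq m l) (andB (Bool.rec (Nat.beq p j) true (Nat.beq p i))
          (force (rtgt r m) fun q => cycRest t L s w q k)))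
        (andB (Nat.blt (rstamp r m) s)
          (force (Nat.sub pos 1) fun pos' => force (rtgt r m) fun q => ih pos' q k)))) w

theorem cyc_cons (t : Tr) (L s i j l m : ℕ) (w : List ℕ) (pos p : ℕ) (k : ℕ → Bool) :
    cyc t L s i j l (m :: w) pos p k = force (rowC t p) fun r =>
      andB (Nat.blt m L) (ifB (Nat.beq pos 0)
        (andB (Nat.beq m l) (andB (Bool.rec (Nat.beq p j) true (Nat.beq p i))
          (force (rtgt r m) fun q => cycRest t L s w q k)))
        (andB (Nat.blt (rstamp r m) s)
          (force (Nat.sub pos 1) fun pos' => force (rtgt r m) fun q => cyc t L s i j l w pos' q k))) := rfl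

/-- check one edge with its code -/
noncomputable def edgeOK (C : Cert) (i l v ri : ℕ) : Bool :=
  force (rtgt ri l) fun j => force (rstamp ri l) fun s => force (rowC C.t j) fun rj =>
    andB (Nat.blt j C.n) (andB (Nat.beq (rtgt rj l) i) (andB (Nat.beq (rstamp rj l) s)
      (ifB (Nat.blt j i) true
        (force (Nat.land v 3) fun kind =>
          ifB (Nat.beq kind 0)
            (force (rpar rj) fun pr => andB (Nat.beq (Nat.shiftRight pr 4) i)
              (andB (Nat.beq (Nat.land pr 15) l) (Nat.blt i j)))
            (ifB (Nat.beq kind 1) (andB (Nat.beq i 0) (andB (Nat.beq j 0) (C.S.any (Nat.beq l))))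
              (force (Nat.land (Nat.shiftRight v 2) 65535) fun c =>
                force (Nat.land (Nat.shiftRight v 18) 255) fun r =>
                  force (Nat.shiftRight v 26) fun pos =>
                    andB (Nat.blt c C.n) (andB (Nat.blt r C.R.length)
                      (andB (Nat.blt pos (C.R.getD r []).length)
                        (cyc C.t C.L s i j l (C.R.getD r []) pos c fun q => Nat.beq q c)))))))))

/-- check all edges of one coset; the codes come packed, 40 bits each -/
noncomputable def rowOK (C : Cert) (i v ri m : ℕ) : Bool :=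
  Nat.rec true (fun l ih => andB (force l fun l' =>
    force (Nat.land (Nat.shiftRight v (Nat.mul l' 40)) 1099511627775) fun x => edgeOK C i l' x ri) ih) m

/-- the tree check of one coset -/
noncomputable def parOK (C : Cert) (i ri : ℕ) : Bool :=
  ifB (Nat.beq i 0) true (force (rpar ri) fun pr => force (Nat.shiftRight pr 4) fun p =>
    force (Nat.land pr 15) fun l =>
      andB (Nat.blt p i) (andB (Nat.blt l C.L) (Nat.beq (tgt C.t p l) i)))

/-- check a block of consecutive cosets -/
noncomputable def blockFrom (C : Cert) (vs : List ℕ) : ℕ → Bool :=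
  List.rec (fun _ => true)
    (fun v _ ih i => andB (force (rowC C.t i) fun ri => andB (parOK C i ri) (rowOK C i v ri C.L))
      (force (Nat.succ i) fun i' => ih i')) vs

/-- check a block of consecutive cosets -/
noncomputable def blockOK (C : Cert) (a : ℕ) (vs : List ℕ) : Bool := blockFrom C vs a

theorem blockOK_cons (C : Cert) (a v : ℕ) (vs : List ℕ) :
    blockOK C a (v :: vs) =
      andB (force (rowC C.t a) fun ri => andB (parOK C a ri) (rowOK C a v ri C.L))
        (force (Nat.succ a) fun i' => blockOK C i' vs) := rfl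

/-- what a checked block gives for one coset -/
def CosetOK (C : Cert) (i : ℕ) : Prop :=
  (i = 0 ∨ (rpar (rowC C.t i) >>> 4 < i ∧ rpar (rowC C.t i) &&& 15 < C.L ∧
    tgt C.t (rpar (rowC C.t i) >>> 4) (rpar (rowC C.t i) &&& 15) = i)) ∧
  ∀ l, l < C.L → ∃ v, edgeOK C i l v (rowC C.t i) = true

theorem rowOK_sound {C : Cert} {i v ri : ℕ} : ∀ {m : ℕ}, rowOK C i v ri m = true →
    ∀ l, l < m → ∃ x, edgeOK C i l x ri = true := by
  intro m
  induction m with
  | zero => intro _ l hl; omega
  | succ m ih =>
    intro h l hl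
    have h' : rowOK C i v ri (m + 1) = andB (force m fun l' =>
        force (Nat.land (Nat.shiftRight v (Nat.mul l' 40)) 1099511627775) fun x => edgeOK C i l' x ri)
          (rowOK C i v ri m) := rfl
    simp only [h', andB_eq, force_eq, Bool.and_eq_true] at h
    rcases Nat.lt_succ_iff_lt_or_eq.mp hl with hl | rfl
    · exact ih h.2 l hl
    · exact ⟨_, h.1⟩

/-- all cosets of an interval are checked -/
def RangeOK (C : Cert) (a b : ℕ) : Prop := ∀ i, a ≤ i → i < b → CosetOK C i

theorem blockOK_sound {C : Cert} : ∀ {vs : List ℕ} {a b : ℕ}, blockOK C a vs = true →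
    a + vs.length = b → RangeOK C a b := by
  intro vs
  induction vs with
  | nil => intro a b _ hb i h1 h2; simp at hb; omega
  | cons v vs ih =>
    intro a b h hb i h1 h2
    simp only [blockOK_cons, andB_eq, force_eq, Bool.and_eq_true] at h
    obtain ⟨⟨hp, hr⟩, hrest⟩ := h
    rcases Nat.lt_or_ge a i with h3 | h3
    · exact ih hrest (by simp at hb; omega) i h3 h2
    · obtain rfl : i = a := by omega
      refine ⟨?_, rowOK_sound hr⟩
      rcases Nat.eq_zero_or_pos i with hi0 | hi0
      · exact Or.inl hi0
      · have hne : Nat.beq i 0 = false := by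
          rw [Bool.eq_false_iff, ne_eq, Nat.beq_eq]; omega
        simp only [parOK, ifB_eq, hne, cond_false, andB_eq, force_eq, Bool.and_eq_true, Nat.beq_eq,
          Nat.blt_eq] at hp
        exact Or.inr ⟨hp.1, hp.2.1, hp.2.2⟩

theorem RangeOK.append {C : Cert} {a b c : ℕ} (h1 : RangeOK C a b) (h2 : RangeOK C b c) :
    RangeOK C a c := fun i ha hc => (Nat.lt_or_ge i b).elim (h1 i ha) (fun h => h2 i h hc)

/-- a fully checked certificate -/
def Cert.OK (C : Cert) : Prop := RangeOK C 0 C.n

variable {C : Cert} (hC : C.OK)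
include hC

theorem Cert.OK.edge {i l : ℕ} (hi : i < C.n) (hl : l < C.L) :
    tgt C.t i l < C.n ∧ tgt C.t (tgt C.t i l) l = i ∧
      stamp C.t (tgt C.t i l) l = stamp C.t i l := by
  obtain ⟨v, hv⟩ := (hC i (Nat.zero_le _) hi).2 l hl
  simp only [edgeOK, andB_eq, force_eq, Bool.and_eq_true, Nat.beq_eq, Nat.blt_eq] at hv
  exact ⟨hv.1, hv.2.1, hv.2.2.1⟩

omit hC

variable {G : Type*} [Group G]

/-- semantics of an edge -/
def ERel (t : Tr) (e : ℕ → G) (H : Subgroup G) (w : ℕ → G) (i l : ℕ) : Prop :=
  w i * e l * (w (tgt t i l))⁻¹ ∈ H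

/-- coset representatives along the tree -/
noncomputable def repW (C : Cert) (e : ℕ → G) : ℕ → ℕ → G
  | 0, _ => 1
  | fuel + 1, i =>
    if i = 0 then 1
    else repW C e fuel (rpar (rowC C.t i) >>> 4) * e (rpar (rowC C.t i) &&& 15)

theorem repW_fuel (C : Cert) (e : ℕ → G) (hC : C.OK) :
    ∀ (f i : ℕ), i < C.n → i < f → repW C e f i = repW C e (i + 1) i := by
  intro f
  induction f using Nat.strong_induction_on with
  | _ f ih =>
    intro i hi hf
    obtain ⟨f', rfl⟩ : ∃ f', f = f' + 1 := ⟨f - 1, by omega⟩
    simp only [repW]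
    split
    · rfl
    · rename_i h0
      obtain ⟨h, -⟩ | ⟨hp, -, -⟩ := (hC i (Nat.zero_le _) hi).1.imp (fun h => And.intro h trivial) id
      · exact absurd h h0
      · rw [ih f' (by omega) _ (by omega) (by omega), ih i (by omega) _ (by omega) (by omega)]

theorem cycRest_sound {e : ℕ → G} {H : Subgroup G} {w : ℕ → G} {t : Tr} {L s n : ℕ}
    (hlt : ∀ p m, p < n → m < L → tgt t p m < n)
    (hK : ∀ p m, p < n → m < L → stamp t p m < s → ERel t e H w p m) :
    ∀ (u : List ℕ) (p : ℕ) (k : ℕ → Bool), p < n → cycRest t L s u p k = true →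
      ∃ q, q < n ∧ k q = true ∧ w p * evalW e u * (w q)⁻¹ ∈ H := by
  intro u
  induction u with
  | nil => intro p k hp h; exact ⟨p, hp, h, by simp [evalW]⟩
  | cons m u ih =>
    intro p k hp h
    simp only [cycRest_cons, andB_eq, force_eq, Bool.and_eq_true, Nat.blt_eq] at h
    obtain ⟨hm, hs, hrest⟩ := h
    obtain ⟨q, hq, hk, hmem⟩ := ih _ _ (hlt p m hp hm) hrest
    refine ⟨q, hq, hk, ?_⟩
    have := H.mul_mem (hK p m hp hm hs) hmem
    simpa [evalW_cons, tgt, mul_assoc] using this

theorem cyc_sound {e : ℕ → G} {H : Subgroup G} {w : ℕ → G} {t : Tr} {L s n i j l : ℕ}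
    (hlt : ∀ p m, p < n → m < L → tgt t p m < n)
    (hK : ∀ p m, p < n → m < L → stamp t p m < s → ERel t e H w p m) :
    ∀ (u : List ℕ) (pos p : ℕ) (k : ℕ → Bool), pos < u.length → p < n →
      cyc t L s i j l u pos p k = true →
      ∃ q a, q < n ∧ k q = true ∧ (a = i ∨ a = j) ∧
        ((w p * evalW e u * (w q)⁻¹ ∈ H) → ERel t e H w a l) := by
  intro u
  induction u with
  | nil => intro pos p k hpos; simp at hpos
  | cons m u ih =>
    intro pos p k hpos hp h
    cases pos with
    | zero =>
      simp only [cyc_cons, andB_eq, ifB_eq, force_eq, Nat.beq_refl, cond_true, Bool.and_eq_true,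
        Nat.beq_eq, Nat.blt_eq] at h
      obtain ⟨hmL, rfl, hpij', hrest⟩ := h
      have hpij : p = i ∨ p = j := by
        cases hb : Nat.beq p i with
        | true => exact Or.inl (Nat.eq_of_beq_eq_true hb)
        | false => rw [hb] at hpij'; exact Or.inr (Nat.eq_of_beq_eq_true hpij')
      obtain ⟨q, hq, hk, hmem⟩ := cycRest_sound hlt hK _ _ _ (hlt p m hp hmL) hrest
      refine ⟨q, p, hq, hk, hpij, fun hu => ?_⟩
      have h3 := H.mul_mem hu (H.inv_mem hmem)
      unfold ERel
      simpa [evalW_cons, tgt, mul_assoc] using h3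
    | succ pos =>
      have hb : Nat.beq (pos + 1) 0 = false := rfl
      have hsub : Nat.sub (pos + 1) 1 = pos := rfl
      simp only [cyc_cons, andB_eq, ifB_eq, force_eq, hb, cond_false, Bool.and_eq_true, Nat.blt_eq,
        hsub] at h
      obtain ⟨hmL, hs, hrest⟩ := h
      obtain ⟨q, a, hq, hk, ha, himp⟩ :=
        ih pos _ _ (by simpa using hpos) (hlt p m hp hmL) hrest
      refine ⟨q, a, hq, hk, ha, fun hu => himp ?_⟩
      have h3 := H.mul_mem (H.inv_mem (hK p m hp hmL hs)) hu
      simpa [evalW_cons, tgt, mul_assoc] using h3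

/-- the hypotheses on an evaluation of the letters -/
structure Hyp (C : Cert) (e : ℕ → G) (H : Subgroup G) : Prop where
  sq : ∀ l, e l * e l = 1
  rel : ∀ u ∈ C.R, evalW e u = 1
  sub : ∀ l ∈ C.S, e l ∈ H

theorem ERel.symm {e : ℕ → G} {H : Subgroup G} {w : ℕ → G} (hsq : ∀ l, e l * e l = 1) {i l : ℕ}
    (hback : tgt C.t (tgt C.t i l) l = i) (h : ERel C.t e H w (tgt C.t i l) l) :
    ERel C.t e H w i l := by
  unfold ERel at *
  rw [hback] at h
  have h2 := H.inv_mem h
  rw [mul_inv_rev, inv_inv, mul_inv_rev, inv_eq_of_mul_eq_one_right (hsq l), ← mul_assoc] at h2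
  exact h2

/-- A checked certificate gives coset representatives closed under the generators. -/
theorem Cert.OK.closed (hC : C.OK) {e : ℕ → G} {H : Subgroup G} (hD : Hyp C e H) :
    ∃ w : ℕ → G, w 0 = 1 ∧
      (∀ i, i < C.n → w i ∈ Subgroup.closure {g | ∃ l < C.L, e l = g}) ∧
      ∀ i, i < C.n → ∀ l, l < C.L → ERel C.t e H w i l := by
  let w : ℕ → G := fun i => repW C e (i + 1) i
  have hw0 : w 0 = 1 := by simp [w, repW]
  have hlt : ∀ p m, p < C.n → m < C.L → tgt C.t p m < C.n := fun p m hp hm => (hC.edge hp hm).1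
  have hstep : ∀ i, i < C.n → i ≠ 0 →
      w i = w (rpar (rowC C.t i) >>> 4) * e (rpar (rowC C.t i) &&& 15) := by
    intro i hi h0
    obtain h | ⟨hp, -, -⟩ := (hC i (Nat.zero_le _) hi).1
    · exact absurd h h0
    · simp only [w]
      conv_lhs => rw [repW, if_neg h0]
      rw [repW_fuel C e hC i _ (by omega) hp]
  have hmem : ∀ i, i < C.n → w i ∈ Subgroup.closure {g | ∃ l < C.L, e l = g} := by
    intro i
    induction i using Nat.strong_induction_on with
    | _ i ih =>
      intro hi
      by_cases h0 : i = 0
      · subst h0; rw [hw0]; exact Subgroup.one_mem _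
      obtain h | ⟨hp, hl, -⟩ := (hC i (Nat.zero_le _) hi).1
      · exact absurd h h0
      · rw [hstep i hi h0]
        exact Subgroup.mul_mem _ (ih _ hp (by omega)) (Subgroup.subset_closure ⟨_, hl, rfl⟩)
  refine ⟨w, hw0, hmem, ?_⟩
  suffices key : ∀ s i l, i < C.n → l < C.L → stamp C.t i l = s → ERel C.t e H w i l from
    fun i hi l hl => key _ i l hi hl rfl
  intro s
  induction s using Nat.strong_induction_on with
  | _ s ih =>
    have main : ∀ i l, i < C.n → l < C.L → stamp C.t i l = s → i ≤ tgt C.t i l →
        ERel C.t e H w i l := by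
      intro i l hi hl hs hij
      obtain ⟨v, hv⟩ := (hC i (Nat.zero_le _) hi).2 l hl
      obtain ⟨hj, hback, -⟩ := hC.edge hi hl
      simp only [edgeOK, andB_eq, ifB_eq, force_eq, Bool.and_eq_true] at hv
      have hnlt : Nat.blt (rtgt (rowC C.t i) l) i = false := by
        rw [Bool.eq_false_iff, ne_eq, Nat.blt_eq]
        unfold tgt at hij
        omega
      obtain ⟨-, -, -, hv⟩ := hv
      rw [hnlt, cond_false] at hv
      set j := tgt C.t i l with hjdef
      have hjd : rtgt (rowC C.t i) l = j := rfl
      have hsd : rstamp (rowC C.t i) l = s := hs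
      rw [hjd, hsd] at hv
      cases h0 : Nat.beq (Nat.land v 3) 0 with
      | true =>
        simp only [h0, cond_true, Bool.and_eq_true, Nat.beq_eq, Nat.blt_eq] at hv
        obtain ⟨e1, e2, hlt'⟩ := hv
        replace e1 : rpar (rowC C.t j) >>> 4 = i := e1
        replace e2 : rpar (rowC C.t j) &&& 15 = l := e2
        unfold ERel
        rw [← hjdef, hstep j hj (by omega), e1, e2]
        simp
      | false =>
        simp only [h0, cond_false] at hv
        cases h1 : Nat.beq (Nat.land v 3) 1 with
        | true =>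
          simp only [h1, cond_true, Bool.and_eq_true, Nat.beq_eq, List.any_eq_true] at hv
          obtain ⟨rfl, hj0, m, hm, rfl⟩ := hv
          unfold ERel
          rw [← hjdef, hj0, hw0]
          simpa using hD.sub _ hm
        | false =>
          simp only [h1, cond_false, Bool.and_eq_true, Nat.blt_eq] at hv
          obtain ⟨hc, hr, hpos, hcyc⟩ := hv
          have hK : ∀ p m, p < C.n → m < C.L → stamp C.t p m < s → ERel C.t e H w p m :=
            fun p m hp hm hlts => ih _ hlts p m hp hm rfl
          obtain ⟨q, a, hq, hk, ha, himp⟩ := cyc_sound hlt hK _ _ _ _ hpos hc hcyc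
          rw [Nat.beq_eq] at hk
          subst hk
          have hu : ERel C.t e H w a l := himp (by
            have : evalW e (C.R.getD (Nat.land (Nat.shiftRight v 18) 255) []) = 1 := by
              rw [List.getD_eq_getElem _ _ hr]
              exact hD.rel _ (List.getElem_mem hr)
            rw [this]; simp)
          rcases ha with rfl | rfl
          · exact hu
          · exact ERel.symm hD.sq hback hu
    intro i l hi hl hs
    obtain ⟨hj, hback, hst⟩ := hC.edge hi hl
    rcases Nat.lt_or_ge (tgt C.t i l) i with h | h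
    · exact ERel.symm hD.sq hback (main _ l hj hl (hst.trans hs) (by rw [hback]; omega))
    · exact main i l hi hl hs h

end Cfsg.Agent.H25.Fi23
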